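import Cfsg.Agent.Lib.RankOne.Basic
import Cfsg.Prelude.Def_Sz
import Cfsg.Prelude.Def_Classical

/-!
# Shared vocabulary for the classification in the rank-one set-up

`kernelW` is the subgroup `W = C_V(K)` of the two-point stabiliser, `Conclusion` the statement
that some normal subgroup of odd index is one of the three simple groups.
-/

set_option autoImplicit false

namespace CfsgLib.RankOne

open MulAction

/-- `W = C_V(K)`: the elements of the two-point stabiliser centralising `t` and all elements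
inverted by `t`. -/
def kernelW (G : Type*) [Group G] {Ω : Type*} [MulAction G Ω] (a : Ω) (t : G) : Subgroup G :=
  two G a t ⊓ Subgroup.centralizer {t} ⊓
    Subgroup.centralizer (Cfsg.invertedBy (two G a t) t)

theorem mem_kernelW {G : Type*} [Group G] {Ω : Type*} [MulAction G Ω] {a : Ω} {t w : G} :
    w ∈ kernelW G a t ↔ w ∈ two G a t ∧ t * w = w * t ∧
      ∀ k ∈ Cfsg.invertedBy (two G a t) t, k * w = w * k := by
  simp only [kernelW, Subgroup.mem_inf,
    Subgroup.mem_centralizer_iff, Set.mem_singleton_iff, forall_eq, and_assoc]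

/-- Some normal subgroup of odd index is `PSL₂(2ⁿ)`, a Suzuki group or `PSU₃(2ⁿ)`. -/
def Conclusion (G : Type*) [Group G] : Prop :=
  ∃ L : Subgroup G, L.Normal ∧ Odd L.index ∧
    ((∃ (F : Type) (_ : Field F) (_ : Fintype F), (∃ n : ℕ, 2 ≤ n ∧ Fintype.card F = 2 ^ n) ∧
        Nonempty (L ≃* Matrix.ProjectiveSpecialLinearGroup (Fin 2) F)) ∨
      Cfsg.Lie.IsoSuzuki L ∨
      (∃ (F : Type) (_ : Field F) (_ : Fintype F) (n : ℕ), 2 ≤ n ∧ Fintype.card F = (2 ^ n) ^ 2 ∧
        Nonempty (L ≃* Cfsg.PSU 3 F (2 ^ n))))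

end CfsgLib.RankOne
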