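import Cfsg.Agent.Lib.RankOne.Four
import Cfsg.Agent.Lib.RankOne.Split.Defs
import Cfsg.Agent.Lib.LocalEven.StrongCore.Main
import Cfsg.Agent.S1120

/-!
# The regular normal part is a 2-group on which the two-point stabiliser is faithful
-/

set_option autoImplicit false
set_option linter.style.haveILetI false

open Cfsg

namespace CfsgLib.RankOne

open MulAction

variable {G Ω : Type*} [Group G] [Finite G] [MulAction G Ω] {a : Ω} {t : G} {Q : Subgroup G}
  (hS : IsRankOneSetup G Ω a t Q)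

include hS

theorem isStronglyEmbedded_stabilizer : IsStronglyEmbedded (stabilizer G a) := by
  refine ⟨fun h => hS.not_mem (h ▸ Subgroup.mem_top t),
    even_iff_two_dvd.mpr ((even_iff_two_dvd.mp hS.even_card).trans (Subgroup.card_dvd_of_le hS.le)),
    fun g hg => ?_⟩
  by_contra hev
  haveI : Fact (Nat.Prime 2) := ⟨Nat.prime_two⟩
  obtain ⟨⟨u, huI⟩, hu⟩ :=
    exists_prime_orderOf_dvd_card' 2 (even_iff_two_dvd.mp (Nat.not_odd_iff_even.mp hev))
  rw [Subgroup.orderOf_mk] at hu
  obtain ⟨hu1, hu2⟩ := Subgroup.mem_inf.mp huI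
  obtain ⟨hne, hsq⟩ : u ≠ 1 ∧ u * u = 1 := by
    refine ⟨fun e => ?_, by rw [← pow_two, ← hu]; exact pow_orderOf_eq_one u⟩
    rw [orderOf_eq_one_iff.mpr e] at hu
    exact absurd hu (by norm_num)
  obtain ⟨v, hv, rfl⟩ := hu2
  have hfix : (MulAut.conj g) v • g • a = g • a := by
    rw [MulAut.conj_apply, mul_smul, mul_smul, inv_smul_smul, show v • a = a from hv]
  exact hg (invol_fix_unique hS hu1 hsq hne hfix)

/-- An element of the two-point stabiliser centralising `Q` is trivial. -/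
theorem faithful_on_Q [FaithfulSMul G Ω] {d : G} (hd : d ∈ two G a t) (hc : ∀ x ∈ Q, d * x = x * d) :
    d = 1 := by
  refine FaithfulSMul.eq_of_smul_eq_smul (α := Ω) fun b => ?_
  rw [one_smul]
  by_cases hb : b = a
  · rw [hb]; exact ((mem_two hS).mp hd).1
  · obtain ⟨q, ⟨hq, rfl⟩, -⟩ := exists_q hS hb
    rw [smul_smul, hc q hq, mul_smul, ((mem_two hS).mp hd).2]

theorem isPGroup_Q [FaithfulSMul G Ω]
    (h2 : ∃ x y : G, x ≠ 1 ∧ y ≠ 1 ∧ x ≠ y ∧ x * x = 1 ∧ y * y = 1 ∧ x * y = y * x) :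
    IsPGroup 2 Q := by
  haveI := isNilpotent_Q hS h2
  set H := stabilizer G a with hH
  have hodd : ∀ p : ℕ, p.Prime → p ≠ 2 → ¬ p ∣ Nat.card Q := by
    intro p hp hp2 hdvd
    haveI : Fact p.Prime := ⟨hp⟩
    let P : Sylow p Q := Classical.arbitrary _
    let R : Subgroup H := ((P : Subgroup Q).map Q.subtype).subgroupOf H
    have hle : (P : Subgroup Q).map Q.subtype ≤ H := (Subgroup.map_subtype_le _).trans hS.le
    have hR : R.Normal := ⟨by
      rintro ⟨x, hxH⟩ ⟨y, hy, hyx⟩ ⟨h, hh⟩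
      rw [Subgroup.mem_subgroupOf]
      change h * x * h⁻¹ ∈ _
      obtain rfl : (y : G) = x := hyx
      refine ⟨⟨h * y * h⁻¹, hS.conj_mem h hh y y.2⟩, ?_, rfl⟩
      obtain ⟨k, hk⟩ := P.isPGroup'.exists_orderOf_eq_pow ⟨y, hy⟩
      rw [Subgroup.orderOf_mk] at hk
      have ho : orderOf (⟨h * y * h⁻¹, hS.conj_mem h hh y y.2⟩ : Q) = p ^ k := by
        rw [← hk, ← Subgroup.orderOf_coe, ← Subgroup.orderOf_coe y]
        exact (MulAut.conj h).orderOf_eq (y : G)
      obtain ⟨P', hP'⟩ := (IsPGroup.of_card (p := p) (n := k)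
        (show Nat.card (Subgroup.zpowers (⟨h * y * h⁻¹, hS.conj_mem h hh y y.2⟩ : Q)) = p ^ k by rw [Nat.card_zpowers]; exact ho)).exists_le_sylow
      have hPn : (P : Subgroup Q).Normal := inferInstance
      letI := Sylow.unique_of_normal P hPn
      exact Subsingleton.elim P' P ▸ hP' (Subgroup.mem_zpowers _)⟩
    have hcard : Nat.card R = Nat.card (P : Subgroup Q) := by
      rw [Nat.card_congr (Subgroup.subgroupOfEquivOfLe hle).toEquiv,
        Subgroup.card_map_of_injective Q.subtype_injective]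
    have hR2 : R ≤ oddCore H := by
      haveI := hR
      refine CfsgLib.Solvable.Cores.le_pPrimeCore ?_
      obtain ⟨k, hk⟩ := IsPGroup.iff_card.mp P.isPGroup'
      rw [hcard, hk]
      exact Nat.Coprime.pow_left k ((Nat.coprime_primes hp Nat.prime_two).mpr hp2)
    have hbot : R.map H.subtype = ⊥ := by
      refine le_bot_iff.mp (((Subgroup.map_mono hR2).trans
        (CfsgLib.LocalEven.StrongCore.oddCore_le (isStronglyEmbedded_stabilizer hS))).trans ?_)
      intro x hx
      have hx' : x ∈ (stabilizer G a).normalCore := by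
        rw [← Cfsg.Agent.S1120.result hS h2]; exact hx
      rw [Subgroup.mem_bot]
      haveI := pretransitive hS
      refine FaithfulSMul.eq_of_smul_eq_smul (α := Ω) fun b => ?_
      rw [one_smul]
      obtain ⟨g, rfl⟩ := MulAction.exists_smul_eq G a b
      have h := Subgroup.normalCore_le _ ((Subgroup.normalCore_normal _).conj_mem x hx' g⁻¹)
      rw [inv_inv] at h
      have h' : (g⁻¹ * x * g) • a = a := h
      rwa [mul_smul, mul_smul, inv_smul_eq_iff] at h'
    rw [Subgroup.map_eq_bot_iff_of_injective _ H.subtype_injective] at hbot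
    rw [hbot, Subgroup.card_bot] at hcard
    exact P.ne_bot_of_dvd_card hdvd ((Subgroup.eq_bot_iff_card _).mpr hcard.symm)
  obtain hh := Nat.eq_two_pow_or_exists_odd_prime_and_dvd (Nat.card Q)
  rcases hh with ⟨k, hk⟩ | ⟨p, hp, hpd, hpo⟩
  · exact IsPGroup.of_card hk
  · exact absurd hpd (hodd p hp fun e => absurd (e ▸ hpo) (by decide))

end CfsgLib.RankOne
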