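import Cfsg.Agent.Lib.RankOne.Split.Glue
import Cfsg.Agent.Lib.RankOne.Split.TwoGroup
import Cfsg.Agent.Lib.LocalEven.StronglyEmbedded
import Cfsg.Agent.Lib.Classical.SLBasic
import Cfsg.Agent.Lib.Classical.SLOrders
import Cfsg.Agent.Lib.KnownB.SuzukiGroup
import Cfsg.Agent.S0283
import Cfsg.Prelude.Def_Amalgam

/-!
# Bender's theorem from the existence of a rank-one set-up and its classification

The two inputs are kept as hypotheses: `SetupExists` (a strongly embedded subgroup of 2-rank at least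
two gives the set-up) and `Classified` (the classification in the set-up).
-/

set_option autoImplicit false
set_option linter.style.haveILetI false

open Cfsg

namespace CfsgLib.RankOne.SplitBender

open MulAction

universe u

/-- A group has two distinct commuting involutions. -/
def HasFour (G : Type u) [Group G] : Prop :=
  ∃ x y : G, x ≠ 1 ∧ y ≠ 1 ∧ x ≠ y ∧ x * x = 1 ∧ y * y = 1 ∧ x * y = y * x

/-- A core-free strongly embedded subgroup in 2-rank at least two gives the set-up. -/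
def SetupExists : Prop :=
  ∀ {G : Type u} [Group G] [Finite G] (H : Subgroup G), IsStronglyEmbedded H → H.normalCore = ⊥ →
    HasFour G → ∃ (t : G) (Q : Subgroup G), IsRankOneSetup G (G ⧸ H) ((1 : G) : G ⧸ H) t Q

/-- The classification in the set-up on a coset space. -/
def Classified : Prop :=
  ∀ {G : Type u} [Group G] [Finite G] (H : Subgroup G) (t : G) (Q : Subgroup G),
    FaithfulSMul G (G ⧸ H) → IsRankOneSetup G (G ⧸ H) ((1 : G) : G ⧸ H) t Q → HasFour G → Conclusion G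

variable {G : Type u} [Group G] [Finite G]

theorem faithful_of_core {H : Subgroup G} (hcore : H.normalCore = ⊥) : FaithfulSMul G (G ⧸ H) := by
  rw [Subgroup.normalCore_eq_ker] at hcore
  refine ⟨fun {x y} h => ?_⟩
  exact (MonoidHom.ker_eq_bot_iff _).mp hcore (Equiv.ext fun b => h b)

theorem core_eq_bot_of_simple [IsSimpleGroup G] {H : Subgroup G} (hH : H ≠ ⊤) : H.normalCore = ⊥ :=
  (IsSimpleGroup.eq_bot_or_eq_top_of_normal _ (Subgroup.normalCore_normal H)).resolve_right fun h =>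
    hH (top_le_iff.mp (h ▸ Subgroup.normalCore_le H))

theorem two_dvd_card {H : Subgroup G} (hH : IsStronglyEmbedded H) : 2 ∣ Nat.card G :=
  (even_iff_two_dvd.mp hH.2.1).trans (Subgroup.card_subgroup_dvd_card H)

/-- The three forms for a simple group with a strongly embedded subgroup. -/
theorem simple_forms (hexp : SetupExists.{u}) (hclass : Classified.{u}) [IsSimpleGroup G]
    {H : Subgroup G} (hH : IsStronglyEmbedded H) :
    (∃ (F : Type) (_ : Field F) (_ : Fintype F), (∃ n : ℕ, 2 ≤ n ∧ Fintype.card F = 2 ^ n) ∧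
        Nonempty (G ≃* Matrix.ProjectiveSpecialLinearGroup (Fin 2) F)) ∨
      Cfsg.Lie.IsoSuzuki G ∨
      (∃ (F : Type) (_ : Field F) (_ : Fintype F) (n : ℕ), 2 ≤ n ∧ Fintype.card F = (2 ^ n) ^ 2 ∧
        Nonempty (G ≃* Cfsg.PSU 3 F (2 ^ n))) := by
  have hcore := core_eq_bot_of_simple hH.1
  have h4 : HasFour G := SplitGlue.exists_commuting_involutions hH
  obtain ⟨t, Q, hS⟩ := hexp H hH hcore h4
  exact SplitGlue.simple_cases (two_dvd_card hH) (hclass H t Q (faithful_of_core hcore) hS h4)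

/-- The order form of Bender's theorem for simple groups. -/
theorem simple_orders (hexp : SetupExists.{u}) (hclass : Classified.{u}) [IsSimpleGroup G]
    {H : Subgroup G} (hH : IsStronglyEmbedded H) :
    (∃ (F : Type) (_ : Field F) (_ : Fintype F), CharP F 2 ∧ 4 ≤ Fintype.card F ∧
        Nonempty (G ≃* Matrix.ProjectiveSpecialLinearGroup (Fin 2) F)) ∨
      Cfsg.IsSuzuki G ∨
      (∃ (F : Type) (_ : Field F) (_ : Fintype F) (q : ℕ), Fintype.card F = q ^ 2 ∧ Even q ∧ 4 ≤ q ∧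
        Nonempty (G ≃* Cfsg.PSU 3 F q)) := by
  have h4 : ∀ {n : ℕ}, 2 ≤ n → 4 ≤ 2 ^ n := fun {n} hn => by
    calc 4 = 2 ^ 2 := rfl
      _ ≤ 2 ^ n := Nat.pow_le_pow_right two_pos hn
  rcases simple_forms hexp hclass hH with ⟨F, i1, i2, ⟨n, hn, hc⟩, he⟩ | h | ⟨F, i1, i2, n, hn, hc, he⟩
  · haveI : Fact (Nat.Prime 2) := ⟨Nat.prime_two⟩
    exact Or.inl ⟨F, i1, i2, charP_of_card_eq_prime_pow hc, by rw [hc]; exact h4 hn, he⟩
  · exact Or.inr (Or.inl (CfsgLib.Recognition.CIT.isSuzuki_of_iso h))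
  · exact Or.inr (Or.inr ⟨F, i1, i2, 2 ^ n, hc, even_two.pow_of_ne_zero (by omega), h4 hn, he⟩)

/-- A core-free strongly embedded subgroup is the normaliser of a Sylow 2-subgroup. -/
theorem exists_sylow_normalizer (hexp : SetupExists.{u}) {H : Subgroup G} (hH : IsStronglyEmbedded H)
    (hcore : H.normalCore = ⊥) (h4 : HasFour G) :
    ∃ S : Sylow 2 G, H = Subgroup.normalizer ((S : Subgroup G) : Set G) := by
  obtain ⟨t, Q, hS⟩ := hexp H hH hcore h4
  haveI := faithful_of_core hcore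
  haveI : Fact (Nat.Prime 2) := ⟨Nat.prime_two⟩
  obtain ⟨P, hP⟩ := exists_sylow hS
  have hQP : Q = (P : Subgroup G) := P.is_maximal' (isPGroup_Q hS h4) hP
  refine ⟨P, ?_⟩
  rw [← hQP]
  set a : G ⧸ H := ((1 : G) : G ⧸ H) with ha
  have hA : stabilizer G a = H := MulAction.stabilizer_quotient H
  apply le_antisymm
  · intro h hh
    rw [← hA] at hh
    exact Subgroup.mem_normalizer_iff.mpr fun x => ⟨fun hx => hS.conj_mem h hh x hx, fun hx => by
      simpa [mul_assoc] using conj_mem' hS hh hx⟩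
  · intro g hg
    rw [← hA]
    obtain ⟨q, hq, hq1⟩ := q_nontrivial hS
    change g • a = a
    by_contra hne
    refine hq1 (eq_one_of_fix hS hq hne ?_)
    have h1 : g⁻¹ * q * g ∈ Q := by
      have := (Subgroup.mem_normalizer_iff.mp (inv_mem hg) q).mp hq
      rwa [inv_inv] at this
    have h2 : (g⁻¹ * q * g) • a = a := hS.le h1
    rw [mul_smul, mul_smul, inv_smul_eq_iff] at h2
    exact h2

/-- A simple normal subgroup of odd index and even order is generated by the 2-elements. -/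
theorem pElementClosure_eq {L : Subgroup G} [L.Normal] (hodd : Odd L.index) (hs : IsSimpleGroup L)
    (heven : 2 ∣ Nat.card L) : pElementClosure 2 (⊤ : Subgroup G) = L := by
  set K := pElementClosure 2 (⊤ : Subgroup G) with hK
  haveI : K.Normal := by
    refine ⟨fun x hx g => ?_⟩
    induction hx using Subgroup.closure_induction with
    | mem y hy =>
      obtain ⟨-, k, hk⟩ := hy
      exact Subgroup.subset_closure ⟨trivial, k, by
        rw [← hk]; exact (MulAut.conj g).orderOf_eq y⟩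
    | one => simp
    | mul y z _ _ ihy ihz =>
      rw [show g * (y * z) * g⁻¹ = g * y * g⁻¹ * (g * z * g⁻¹) by group]; exact mul_mem ihy ihz
    | inv y _ ihy =>
      rw [show g * y⁻¹ * g⁻¹ = (g * y * g⁻¹)⁻¹ by group]; exact inv_mem ihy
  apply le_antisymm
  · refine (Subgroup.closure_le _).mpr ?_
    rintro x ⟨-, k, hk⟩
    rw [SetLike.mem_coe, ← QuotientGroup.eq_one_iff]
    have h1 : orderOf (x : G ⧸ L) ∣ 2 ^ k := hk ▸ orderOf_map_dvd (QuotientGroup.mk' L) x
    have h2 : orderOf (x : G ⧸ L) ∣ L.index := orderOf_dvd_natCard _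
    rw [← orderOf_eq_one_iff]
    exact Nat.eq_one_of_dvd_coprimes ((Nat.coprime_two_left.mpr hodd).pow_left k) h1 h2
  · haveI : Fact (Nat.Prime 2) := ⟨Nat.prime_two⟩
    obtain ⟨z, hz⟩ := exists_prime_orderOf_dvd_card' 2 heven
    have hzK : (z : G) ∈ K := Subgroup.subset_closure ⟨trivial, 1, by
      rw [Subgroup.orderOf_coe, hz, pow_one]⟩
    rcases hs.eq_bot_or_eq_top_of_normal (K.subgroupOf L) inferInstance with h | h
    · exfalso
      have hz1 : z = 1 := Subgroup.mem_bot.mp (h ▸ (hzK : z ∈ K.subgroupOf L))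
      rw [hz1, orderOf_one] at hz
      exact absurd hz (by norm_num)
    · exact Subgroup.subgroupOf_eq_top.mp h

theorem sl_equiv_psl {F : Type} [Field F] [Fintype F] (h : Even (Fintype.card F)) :
    Nonempty (Matrix.ProjectiveSpecialLinearGroup (Fin 2) F ≃* Matrix.SpecialLinearGroup (Fin 2) F) := by
  have hc := CfsgLib.Classical.card_center_sl (F := F) 2 one_le_two
  have hg : Nat.gcd 2 (Fintype.card F - 1) = 1 := by
    have := Fintype.one_lt_card (α := F)
    obtain ⟨k, hk⟩ := h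
    exact (Nat.prime_two.coprime_iff_not_dvd).2 (by omega)
  rw [hg] at hc
  exact ⟨(QuotientGroup.quotientMulEquivOfEq (Subgroup.card_eq_one.1 hc)).trans QuotientGroup.quotientBot⟩

theorem four_le_two_pow {n : ℕ} (hn : 2 ≤ n) : 4 ≤ 2 ^ n := by
  calc 4 = 2 ^ 2 := rfl
    _ ≤ 2 ^ n := Nat.pow_le_pow_right two_pos hn

/-- The structural form: outside 2-rank one, `O^{2'}(G/O(G))` is one of the three simple groups. -/
theorem structural (hexp : SetupExists.{u}) (hclass : Classified.{u}) (X : Subgroup G)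
    (hX : IsStronglyPEmbedded 2 X) :
    (∀ t : G, orderOf t = 2 → pPrimeCore 2 G ⊔ Subgroup.centralizer ({t} : Set G) = ⊤ ∧
        ∀ v ∈ Subgroup.centralizer ({t} : Set G), orderOf v = 2 → v = t) ∨
      (∃ (F : Type) (_ : Field F) (_ : Fintype F), CharP F 2 ∧ 4 ≤ Fintype.card F ∧
        Nonempty (↥(pElementClosure 2 (⊤ : Subgroup (G ⧸ pPrimeCore 2 G))) ≃*
          Matrix.SpecialLinearGroup (Fin 2) F)) ∨
      (∃ (F : Type) (_ : Field F) (_ : Fintype F) (q : ℕ), Even q ∧ 4 ≤ q ∧ Fintype.card F = q ^ 2 ∧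
        Nonempty (↥(pElementClosure 2 (⊤ : Subgroup (G ⧸ pPrimeCore 2 G))) ≃* Cfsg.PSU 3 F q)) ∨
      Cfsg.Lie.IsoSuzuki ↥(pElementClosure 2 (⊤ : Subgroup (G ⧸ pPrimeCore 2 G))) := by
  haveI : Fact (Nat.Prime 2) := ⟨Nat.prime_two⟩
  have hdvd : 2 ∣ Nat.card X := CfsgLib.LocalEven.StronglyEmbedded.spe_dvd hX
  have hH : IsStronglyEmbedded X := ⟨hX.2.1, even_iff_two_dvd.mpr hdvd, fun g hg =>
    Nat.not_even_iff_odd.mp fun h =>
      (CfsgLib.LocalEven.StronglyEmbedded.spe_iff_classical hX.2.1 hdvd).mp hX g hg (even_iff_two_dvd.mp h)⟩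
  by_cases hcomm : ∃ x y : G, orderOf x = 2 ∧ orderOf y = 2 ∧ x ≠ y ∧ Commute x y
  swap
  · refine Or.inl fun t ht => ⟨eq_top_iff.mpr fun g _ => ?_, fun v hv hv2 => ?_⟩
    · have hiso : IsIsolatedInvolution t := ⟨ht, fun g hg => by
        by_contra hne
        exact hcomm ⟨t, g * t * g⁻¹, ht, ((MulAut.conj g).orderOf_eq t).trans ht, Ne.symm hne, hg⟩⟩
      obtain ⟨o, ho, c, hc, rfl⟩ := CfsgLib.Involution.ZStar.exists_oddCore_mul_centralizer
        (CfsgLib.Involution.ZStar.starCentral G) hiso g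
      exact Subgroup.mul_mem_sup ho hc
    · by_contra hne
      exact hcomm ⟨v, t, hv2, ht, hne, Subgroup.mem_centralizer_singleton_iff.mp hv⟩
  right
  set C := X.normalCore with hC
  have hCX : C ≤ X := X.normalCore_le
  have hsq : ∀ {t : G}, orderOf t = 2 → t * t = 1 ∧ t ≠ 1 := fun {t} ht =>
    ⟨by rw [← pow_two, ← ht]; exact pow_orderOf_eq_one t, fun e => by
      rw [orderOf_eq_one_iff.mpr e] at ht; exact absurd ht (by norm_num)⟩
  have hCinv : ∀ t ∈ C, orderOf t ≠ 2 := by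
    intro t ht ht2
    obtain ⟨g, hg⟩ : ∃ g : G, g ∉ X := by
      by_contra hall
      push Not at hall
      exact hH.1 (eq_top_iff.mpr fun g _ => hall g)
    have hmem : t ∈ X ⊓ X.map (MulAut.conj g).toMonoidHom := by
      refine Subgroup.mem_inf.mpr ⟨hCX ht, ⟨g⁻¹ * t * g, hCX ?_, ?_⟩⟩
      · simpa using (Subgroup.normalCore_normal X).conj_mem t ht g⁻¹
      · rw [MulEquiv.coe_toMonoidHom, MulAut.conj_apply]; group
    have := Subgroup.orderOf_dvd_natCard _ hmem
    rw [ht2] at this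
    exact Nat.not_even_iff_odd.mpr (hH.2.2 g hg) (even_iff_two_dvd.mpr this)
  have hCodd : (Nat.card C).Coprime 2 := by
    refine ((Nat.Prime.coprime_iff_not_dvd Nat.prime_two).mpr fun h => ?_).symm
    obtain ⟨z, hz⟩ := exists_prime_orderOf_dvd_card' 2 h
    exact hCinv z z.2 ((Subgroup.orderOf_coe z).trans hz)
  set π := QuotientGroup.mk' C with hπ
  have hπX : ∀ {g : G}, π g ∈ X.map π → g ∈ X := fun {g} h => by
    obtain ⟨x, hx, e⟩ := h
    have h1 : x⁻¹ * g ∈ C := QuotientGroup.eq.1 e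
    simpa using mul_mem hx (hCX h1)
  have hπ2 : ∀ {t : G}, orderOf t = 2 → π t ≠ 1 ∧ π t * π t = 1 := fun {t} ht =>
    ⟨fun h => hCinv t ((QuotientGroup.eq_one_iff t).1 h) ht, by rw [← map_mul, (hsq ht).1, map_one]⟩
  set H' := X.map π with hH'
  have hSE : IsStronglyEmbedded H' := by
    refine ⟨fun h => hH.1 (eq_top_iff.2 fun g _ => hπX (h ▸ Subgroup.mem_top _)), ?_, fun g hg => ?_⟩
    · obtain ⟨⟨t, htX⟩, ht⟩ := exists_prime_orderOf_dvd_card' 2 hdvd
      rw [Subgroup.orderOf_mk] at ht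
      obtain ⟨h1, h2⟩ := hπ2 ht
      have ho : orderOf (π t) = 2 := orderOf_eq_prime (by rw [pow_two]; exact h2) h1
      exact even_iff_two_dvd.mpr (ho ▸ Subgroup.orderOf_dvd_natCard _ (Subgroup.mem_map_of_mem π htX))
    · obtain ⟨g, rfl⟩ := QuotientGroup.mk'_surjective C g
      have hgX : g ∉ X := fun h => hg (Subgroup.mem_map_of_mem π h)
      refine (hH.2.2 g hgX).of_dvd_nat ((Subgroup.card_dvd_of_le ?_).trans
        (Subgroup.card_map_dvd _ π))
      rintro _ ⟨⟨k, hk, rfl⟩, ⟨_, ⟨l, hl, rfl⟩, e⟩⟩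
      refine ⟨k, ⟨hk, g⁻¹ * k * g, ?_, by simp [mul_assoc]⟩, rfl⟩
      refine hπX ?_
      change π g * π l * (π g)⁻¹ = π k at e
      rw [map_mul, map_mul, map_inv, ← e]
      exact ⟨l, hl, by group⟩
  have hcore : H'.normalCore = ⊥ := by
    have h1 : (H'.normalCore).comap π ≤ X := fun g hg => hπX (Subgroup.normalCore_le _ hg)
    haveI : (H'.normalCore).Normal := Subgroup.normalCore_normal _
    have h2 : (H'.normalCore).comap π ≤ C := Subgroup.normal_le_normalCore.mpr h1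
    refine (Subgroup.eq_bot_iff_forall _).mpr fun q hq => ?_
    obtain ⟨g, rfl⟩ := QuotientGroup.mk'_surjective C q
    exact (QuotientGroup.eq_one_iff g).mpr (h2 hq)
  obtain ⟨x, y, hx, hy, hxy, hc⟩ := hcomm
  have h4 : HasFour (G ⧸ C) := by
    refine ⟨π x, π y, (hπ2 hx).1, (hπ2 hy).1, fun e => ?_, (hπ2 hx).2, (hπ2 hy).2, by
      rw [← map_mul, ← map_mul, hc.eq]⟩
    have hmem : x⁻¹ * y ∈ C := QuotientGroup.eq.1 e
    refine hCinv _ hmem (orderOf_eq_prime ?_ ?_)
    · have hcy : x⁻¹ * y = y * x⁻¹ := (hc.inv_left).eq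
      calc (x⁻¹ * y) ^ 2 = x⁻¹ * (y * x⁻¹) * y := by rw [pow_two]; group
        _ = (x * x)⁻¹ * (y * y) := by rw [← hcy]; group
        _ = 1 := by rw [(hsq hx).1, (hsq hy).1, inv_one, one_mul]
    · intro h1
      exact hxy (inv_mul_eq_one.mp h1)
  obtain ⟨t, Q, hS⟩ := hexp H' hSE hcore h4
  haveI := faithful_of_core hcore
  -- the odd core of the quotient is trivial
  have hO' : pPrimeCore 2 (G ⧸ C) = ⊥ := by
    rw [Cfsg.Agent.S1120.result hS h4]
    exact (congrArg Subgroup.normalCore (MulAction.stabilizer_quotient H')).trans hcore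
  have hO : pPrimeCore 2 G = C := by
    haveI : (pPrimeCore 2 G).Normal := Subgroup.sSup_normal _ fun _ h => h.1
    refine le_antisymm (fun g hg => ?_) (CfsgLib.Solvable.Cores.le_pPrimeCore hCodd)
    haveI := (inferInstance : (pPrimeCore 2 G).Normal).map π (QuotientGroup.mk'_surjective C)
    have hle : (pPrimeCore 2 G).map π ≤ pPrimeCore 2 (G ⧸ C) := CfsgLib.Solvable.Cores.le_pPrimeCore
      ((CfsgLib.Solvable.Cores.coprime_card_pPrimeCore 2).coprime_dvd_left (Subgroup.card_map_dvd _ π))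
    rw [hO'] at hle
    exact (QuotientGroup.eq_one_iff g).mp (Subgroup.mem_bot.mp (hle (Subgroup.mem_map_of_mem π hg)))
  have e : G ⧸ pPrimeCore 2 G ≃* G ⧸ C := QuotientGroup.quotientMulEquivOfEq hO
  obtain ⟨L, hLn, hLodd, hL⟩ := hclass H' t Q (faithful_of_core hcore) hS h4
  have hmapK : (pElementClosure 2 (⊤ : Subgroup (G ⧸ pPrimeCore 2 G))).map e.toMonoidHom =
      pElementClosure 2 (⊤ : Subgroup (G ⧸ C)) := by
    rw [pElementClosure, pElementClosure, MonoidHom.map_closure]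
    congr 1
    ext z
    constructor
    · rintro ⟨w, ⟨-, k, hk⟩, rfl⟩
      exact ⟨trivial, k, (e.orderOf_eq w).trans hk⟩
    · rintro ⟨-, k, hk⟩
      exact ⟨e.symm z, ⟨trivial, k, (e.symm.orderOf_eq z).trans hk⟩, e.apply_symm_apply z⟩
  have hLeven : 2 ∣ Nat.card L := by
    have h : 2 ∣ Nat.card L * L.index := by
      rw [L.card_mul_index]; exact two_dvd_card hSE
    exact (Nat.coprime_two_left.mpr hLodd).dvd_of_dvd_mul_right h
  have key : IsSimpleGroup L →
      Nonempty (↥(pElementClosure 2 (⊤ : Subgroup (G ⧸ pPrimeCore 2 G))) ≃* L) := fun hs =>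
    ⟨((pElementClosure 2 (⊤ : Subgroup (G ⧸ pPrimeCore 2 G))).equivMapOfInjective e.toMonoidHom
      e.injective).trans (MulEquiv.subgroupCongr (hmapK.trans (pElementClosure_eq hLodd hs hLeven)))⟩
  rcases hL with ⟨F, i1, i2, ⟨n, hn, hc⟩, ⟨f⟩⟩ | ⟨F, i1, i2, m, hm, hc, ⟨f⟩⟩ | ⟨F, i1, i2, n, hn, hc, ⟨f⟩⟩
  · haveI : IsSimpleGroup (Matrix.ProjectiveSpecialLinearGroup (Fin 2) F) :=
      CfsgLib.Classical.psl_fin_isSimpleGroup le_rfl fun _ => hc ▸ four_le_two_pow hn
    obtain ⟨k⟩ := key f.isSimpleGroup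
    obtain ⟨s⟩ := sl_equiv_psl (F := F) (hc ▸ even_two.pow_of_ne_zero (by omega))
    exact Or.inl ⟨F, i1, i2, charP_of_card_eq_prime_pow hc, hc ▸ four_le_two_pow hn,
      ⟨(k.trans f).trans s⟩⟩
  · have htw := CfsgLib.KnownB.SzElem.twist_of_card hc
    haveI := CfsgLib.KnownB.Suzuki.isSimpleGroup htw (by
      obtain ⟨v, hv⟩ : ∃ v : F, v ≠ 0 ∧ v ≠ 1 := by
        classical
        by_contra hall
        push Not at hall
        have hle : Fintype.card F ≤ ({0, 1} : Finset F).card := Finset.card_le_card fun v _ => by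
          by_cases h0 : v = 0
          · simp [h0]
          · simp [hall v h0]
        have h2 : ({0, 1} : Finset F).card ≤ 2 := Finset.card_le_two
        have h8 : 2 ^ 3 ≤ 2 ^ (2 * m + 1) := Nat.pow_le_pow_right two_pos (by omega)
        rw [hc] at hle
        omega
      exact ⟨Units.mk0 v hv.1, fun h => hv.2 (congrArg Units.val h)⟩)
    obtain ⟨k⟩ := key f.isSimpleGroup
    exact Or.inr (Or.inr ⟨F, i1, i2, m, hm, hc, ⟨k.trans f⟩⟩)
  · haveI := Cfsg.Agent.S0283.result hc 3 le_rfl (fun h => by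
      have := four_le_two_pow hn
      omega)
    obtain ⟨k⟩ := key f.isSimpleGroup
    exact Or.inr (Or.inl ⟨F, i1, i2, 2 ^ n, even_two.pow_of_ne_zero (by omega), four_le_two_pow hn, hc,
      ⟨k.trans f⟩⟩)

end CfsgLib.RankOne.SplitBender
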