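import Cfsg.Agent.Lib.RankOne.UnitaryAut

/-!
# Odd groups of automorphisms of the Heisenberg group

An odd group of automorphisms is conjugate by one central automorphism into the similitudes.
-/

set_option autoImplicit false
set_option linter.unusedSectionVars false

namespace CfsgLib.RankOne.UnitarySylow

open CfsgLib.Classical

variable {F : Type*} [Field F] [Fintype F] {σ : F →+* F} [CharP F 2] [hσ : Fact (IsConjugation σ)]
  {q : ℕ} [hq : Fact (Fintype.card F = q ^ 2 ∧ ∀ x, σ x = x ^ q)]

theorem centAut_add (f g : F →+ (σ.eqLocusField (RingHom.id F))) :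
    centAut (f + g) = centAut f * centAut g :=
  MulEquiv.ext fun x => Heis.ext rfl (by
    show x.b + ((f + g) x.c : F) = x.b + (g x.c : F) + (f x.c : F)
    rw [AddMonoidHom.add_apply, Subfield.coe_add]; ring)

theorem centAut_zero : centAut (0 : F →+ (σ.eqLocusField (RingHom.id F))) = 1 :=
  MulEquiv.ext fun x => Heis.ext rfl (by
    show x.b + ((0 : F →+ (σ.eqLocusField (RingHom.id F))) x.c : F) = x.b
    rw [AddMonoidHom.zero_apply, ZeroMemClass.coe_zero, add_zero])

theorem centAut_inj {f g : F →+ (σ.eqLocusField (RingHom.id F))} (h : centAut f = centAut g) :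
    f = g := by
  refine AddMonoidHom.ext fun c => Subtype.ext ?_
  obtain ⟨x, rfl⟩ := exists_elt (σ := σ) c
  exact add_left_cancel (congrArg Heis.b (DFunLike.congr_fun h x))

theorem centAut_self (f : F →+ (σ.eqLocusField (RingHom.id F))) :
    centAut f * centAut f = 1 := by
  rw [← centAut_add, show f + f = 0 from AddMonoidHom.ext fun c => Subtype.ext (by
    rw [AddMonoidHom.add_apply, Subfield.coe_add, add_self]; rfl), centAut_zero]

include hq in
theorem exists_centAut_of_fix_c {φ : MulAut (Heis σ)} (h : ∀ g, (φ g).c = g.c) :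
    ∃ f, φ = centAut f := by
  obtain ⟨⟨f, u, τ⟩, rfl⟩ := (decompose (σ := σ) (q := q)).2 φ
  refine ⟨f, ?_⟩
  have hc : ∀ c, (u : F) * τ c = c := fun c => by
    obtain ⟨g, rfl⟩ := exists_elt (σ := σ) c
    exact h g
  have hu : (u : F) = 1 := by simpa using hc 1
  have hτ : ∀ c, τ c = c := fun c => by simpa [hu] using hc c
  have h1 : simAut (σ := σ) (q := q) u τ = 1 := MulEquiv.ext fun g =>
    Heis.ext (hc g.c) (by
      show (u : F) * σ u * τ g.b = g.b
      rw [hu, map_one, one_mul, one_mul, hτ])
  show centAut f * simAut (σ := σ) (q := q) u τ = centAut f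
  rw [h1, mul_one]

include hq in
theorem simAut_mul (u u' : Fˣ) (τ τ' : F ≃+* F) :
    simAut (σ := σ) (q := q) u τ * simAut (σ := σ) (q := q) u' τ' =
      simAut (σ := σ) (q := q) (u * Units.map (τ : F →* F) u') (τ'.trans τ) :=
  MulEquiv.ext fun g => Heis.ext (by
      show (u : F) * τ ((u' : F) * τ' g.c) = (u : F) * τ (u' : F) * τ (τ' g.c)
      rw [map_mul, mul_assoc]) (by
      show (u : F) * σ u * τ ((u' : F) * σ u' * τ' g.b) =
        (u : F) * τ (u' : F) * σ ((u : F) * τ (u' : F)) * τ (τ' g.b)
      rw [map_mul, map_mul, map_mul, comm_frob (σ := σ) (q := q)]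
      ring)

include hq in
/-- Averaging the central parts. -/
theorem exists_conj_simAut {D : Type*} [Group D] [Finite D] (hD : Odd (Nat.card D))
    (Γ : D →* MulAut (Heis σ)) :
    ∃ f : F →+ (σ.eqLocusField (RingHom.id F)), ∀ d, ∃ (u : Fˣ) (τ : F ≃+* F),
      centAut f * Γ d * centAut f = simAut (σ := σ) (q := q) u τ := by
  classical
  haveI := Fintype.ofFinite D
  choose p hp using fun d => (decompose (σ := σ) (q := q)).2 (Γ d)
  let s : D → MulAut (Heis σ) := fun d => simAut (σ := σ) (q := q) (p d).2.1 (p d).2.2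
  have hΓ : ∀ d, Γ d = centAut (p d).1 * s d := fun d => (hp d).symm
  have hA : ∀ d (f : F →+ (σ.eqLocusField (RingHom.id F))),
      ∃ g, s d * centAut f * (s d)⁻¹ = centAut g := fun d f =>
    exists_centAut_of_fix_c (q := q) fun g => by
      obtain ⟨g, rfl⟩ := (s d).surjective g
      rw [MulAut.mul_apply, MulAut.mul_apply, MulAut.inv_apply_self]
      exact same_c (s d) rfl
  choose A hA using hA
  have hAadd : ∀ d f g, A d (f + g) = A d f + A d g := fun d f g => centAut_inj (by
    rw [centAut_add, ← hA, ← hA, ← hA, centAut_add]; group)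
  have hcocycle : ∀ d e, (p (d * e)).1 = (p d).1 + A d (p e).1 := fun d e => by
    have h1 : Γ (d * e) = centAut ((p d).1 + A d (p e).1) * (s d * s e) := by
      rw [map_mul, hΓ d, hΓ e, centAut_add, ← hA]; group
    rw [show s d * s e = _ from simAut_mul _ _ _ _, ← hp (d * e)] at h1
    exact congrArg Prod.fst ((decompose (σ := σ) (q := q)).1
      (a₁ := p (d * e)) (a₂ := ((p d).1 + A d (p e).1, _, _)) h1)
  set S := ∑ e, (p e).1 with hS
  have h2 : ∀ f : F →+ (σ.eqLocusField (RingHom.id F)), f + f = 0 := fun f =>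
    AddMonoidHom.ext fun c => Subtype.ext (by
      rw [AddMonoidHom.add_apply, Subfield.coe_add, add_self]; rfl)
  have hfix : ∀ d, S = (p d).1 + A d S := fun d => by
    obtain ⟨m, hm⟩ := hD
    calc S = ∑ e, (p (d * e)).1 := (Equiv.sum_comp (Equiv.mulLeft d) fun e => (p e).1).symm
      _ = ∑ e, ((p d).1 + A d (p e).1) := Finset.sum_congr rfl fun e _ => hcocycle d e
      _ = _ := by
        rw [Finset.sum_add_distrib, Finset.sum_const, Finset.card_univ, ← Nat.card_eq_fintype_card, hm,
          add_smul, one_smul, mul_comm, mul_smul, two_nsmul, h2, smul_zero, zero_add, hS]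
        congr 1
        exact (map_sum (AddMonoidHom.mk' (A d) (hAadd d)) _ _).symm
  refine ⟨S, fun d => ⟨(p d).2.1, (p d).2.2, ?_⟩⟩
  calc centAut S * Γ d * centAut S
      = centAut S * centAut (p d).1 * (s d * centAut S * (s d)⁻¹) * s d := by rw [hΓ]; group
    _ = centAut (S + (p d).1 + A d S) * s d := by rw [hA, centAut_add, centAut_add]
    _ = s d := by rw [add_assoc, ← hfix, h2, centAut_zero, one_mul]

end CfsgLib.RankOne.UnitarySylow
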