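import Cfsg.Agent.Lib.RankOne.Split.Heis
import Cfsg.Agent.Lib.RankOne.Small.Main
import Cfsg.Agent.Lib.RankOne.UnitaryUnique.Model
import Cfsg.Agent.Lib.RankOne.UnitaryUnique.ToPlane
import Cfsg.Agent.Lib.RankOne.UnitaryUnique.Standard

/-!
# The classification in the rank-one set-up

Either `W = 1`, giving `PSL(2, 2^n)` or a Suzuki group, or `Q` has unitary coordinates and the action is
the standard one of `PSU(3, 2^n)`.
-/

set_option autoImplicit false
set_option linter.style.haveILetI false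

open Cfsg

namespace CfsgLib.RankOne

open MulAction UnitaryUnique CfsgLib.Classical

universe u v

/-- Some normal subgroup of odd index is `PSL(2, 2^n)`, a Suzuki group or `PSU(3, 2^n)`. -/
theorem conclusion {G : Type u} {Ω : Type v} [Group G] [Finite G] [MulAction G Ω] [FaithfulSMul G Ω] {a : Ω} {t : G} {Q : Subgroup G}
    (hS : IsRankOneSetup G Ω a t Q)
    (h2 : ∃ x y : G, x ≠ 1 ∧ y ≠ 1 ∧ x ≠ y ∧ x * x = 1 ∧ y * y = 1 ∧ x * y = y * x) :
    Conclusion G := by
  rcases eq_or_ne (kernelW G a t) ⊥ with hW | hW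
  · exact Small.conclusion_of_kernelW_bot hS h2 hW
  · obtain ⟨F, _, _, _, σ, q, -, ⟨U⟩⟩ := exists_ucoord₀ hS h2 hW
    haveI : Fact (IsConjugation σ) := ⟨U.conj⟩
    haveI : Fact (Fintype.card F = q ^ 2 ∧ ∀ x, σ x = x ^ q) := ⟨U.card_field⟩
    obtain ⟨ψ, hψ, -⟩ := U.exists_extend hS
    obtain ⟨U₁⟩ := exists_ucoord hS U ψ hψ
    obtain ⟨U₂, h⟩ := exists_standard hS U₁
    exact conclusion_of_standard hS U₂ h

end CfsgLib.RankOne
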