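import Cfsg.Agent.Lib.RankOne.Split.TwoGroup
import Cfsg.Agent.S1127
import Cfsg.Agent.S1132
import Cfsg.Agent.S1137
import Cfsg.Agent.S1138

/-!
# Either `W` is trivial or `Q` is a Suzuki 2-group of order `|Z(Q)|³`
-/

set_option autoImplicit false
set_option linter.style.haveILetI false

open Cfsg

namespace CfsgLib.RankOne

open MulAction

theorem eq_one_of_odd_pow {G : Type*} [Group G] {y : G} (h2 : y * y = 1) {n : ℕ} (hn : Odd n)
    (hyn : y ^ n = 1) : y = 1 := by
  obtain ⟨m, rfl⟩ := hn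
  rwa [pow_succ, pow_mul, pow_two, h2, one_pow, one_mul] at hyn

/-- If an element of odd order moves `x` within a coset of fixed involutions, it fixes `x`. -/
theorem commute_of_conj_eq_mul {G : Type*} [Group G] {w x y : G} (hwy : w * y = y * w) (h2 : y * y = 1)
    (hc : w * x * w⁻¹ = y * x) {n : ℕ} (hn : Odd n) (hwn : w ^ n = 1) : w * x = x * w := by
  have key : ∀ m : ℕ, w ^ m * x * (w ^ m)⁻¹ = y ^ m * x := by
    intro m
    induction m with
    | zero => simp
    | succ m ih =>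
      have hcm : Commute w (y ^ m) := Commute.pow_right hwy m
      calc w ^ (m + 1) * x * (w ^ (m + 1))⁻¹ = w * (w ^ m * x * (w ^ m)⁻¹) * w⁻¹ := by
            rw [pow_succ' w m]; group
        _ = w * (y ^ m * x) * w⁻¹ := by rw [ih]
        _ = y ^ m * (w * x * w⁻¹) := by rw [← mul_assoc w, hcm.eq]; group
        _ = y ^ (m + 1) * x := by rw [hc, ← mul_assoc, ← pow_succ]
  have h := key n
  rw [hwn] at h
  have hy : y = 1 := eq_one_of_odd_pow h2 hn (by simpa using h.symm)
  rw [hy, one_mul] at hc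
  exact mul_inv_eq_iff_eq_mul.mp hc

theorem isSuzukiTwoGroup_congr {P R : Type*} [Group P] [Group R] (e : P ≃* R)
    (hP : IsSuzukiTwoGroup P) : IsSuzukiTwoGroup R := by
  obtain ⟨hfin, hp, ⟨x, y, hxy⟩, ⟨u, v, huv, hu1, hu, hv1, hv⟩, K, hK, htr⟩ := hP
  refine ⟨Finite.of_equiv P e.toEquiv, hp.of_equiv e, ⟨e x, e y, fun h => hxy (e.injective (by
    rw [map_mul, map_mul]; exact h))⟩, ⟨e u, e v, e.injective.ne huv, fun h => hu1 (e.injective (by
    rw [h, map_one])), by rw [← map_mul, hu, map_one], fun h => hv1 (e.injective (by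
    rw [h, map_one])), by rw [← map_mul, hv, map_one]⟩, K.map (MulAut.congr e).toMonoidHom, ?_, ?_⟩
  · exact isCyclic_of_surjective (K.equivMapOfInjective _ (MulAut.congr e).injective).toMonoidHom
      (MulEquiv.surjective _)
  intro a b ha1 ha hb1 hb
  obtain ⟨k, hk, huniq⟩ := htr (e.symm a) (e.symm b)
    (fun h => ha1 (e.symm.injective (by rw [h, map_one]))) (by rw [← map_mul, ha, map_one])
    (fun h => hb1 (e.symm.injective (by rw [h, map_one]))) (by rw [← map_mul, hb, map_one])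
  refine ⟨⟨_, Subgroup.mem_map_of_mem _ k.2⟩, ?_, ?_⟩
  · change e ((k : MulAut P) (e.symm a)) = b
    rw [hk, MulEquiv.apply_symm_apply]
  · rintro ⟨_, k', hk', rfl⟩ h
    have h' : e (k' (e.symm a)) = b := h
    have := huniq ⟨k', hk'⟩ (by rw [← h', MulEquiv.symm_apply_apply])
    exact Subtype.ext (by rw [← this])

variable {G Ω : Type*} [Group G] [Finite G] [MulAction G Ω] [FaithfulSMul G Ω] {a : Ω} {t : G}
  {Q : Subgroup G} (hS : IsRankOneSetup G Ω a t Q)
  (h2 : ∃ x y : G, x ≠ 1 ∧ y ≠ 1 ∧ x ≠ y ∧ x * x = 1 ∧ y * y = 1 ∧ x * y = y * x)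

include hS h2

omit h2 in
theorem kernelW_commute {w : G} (hw : w ∈ kernelW G a t) {s : G}
    (hs : s ∈ involutionsIn (stabilizer G a : Set G)) : w * s = s * w := by
  have h : kernelW G a t = _ := (Cfsg.Agent.S1127.result hS).2
  rw [h] at hw
  exact (Subgroup.mem_centralizer_iff.mp hw.2 s hs).symm

theorem abelian_or_suzuki : IsMulCommutative Q ∨ IsSuzukiTwoGroup Q := by
  haveI : Fact (Nat.Prime 2) := ⟨Nat.prime_two⟩
  let S : Sylow 2 Q := Classical.arbitrary _
  have hp : IsPGroup 2 (⊤ : Subgroup Q) := (isPGroup_Q hS h2).to_subgroup ⊤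
  have htop : (S : Subgroup Q) = ⊤ := (S.is_maximal' hp le_top).symm
  rcases Cfsg.Agent.S1132.result hS h2 S with h | h
  · left
    exact ⟨⟨fun x y => congrArg Subtype.val
      (h.1.1 ⟨x, by rw [htop]; trivial⟩ ⟨y, by rw [htop]; trivial⟩)⟩⟩
  · right
    exact isSuzukiTwoGroup_congr ((MulEquiv.subgroupCongr htop).trans Subgroup.topEquiv) h

theorem kernelW_eq_bot_of_abelian (hab : IsMulCommutative Q) : kernelW G a t = ⊥ := by
  refine (Subgroup.eq_bot_iff_forall _).mpr fun w hw => ?_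
  have hwD := (mem_kernelW.mp hw).1
  refine faithful_on_Q hS hwD fun x hx => ?_
  have hn : Odd (orderOf w) := hS.odd_card.of_dvd_nat (by
    have := orderOf_dvd_natCard (G := two G a t) ⟨w, hwD⟩
    rwa [← Subgroup.orderOf_coe] at this)
  have hQ : ∀ {u v : G}, u ∈ Q → v ∈ Q → u * v = v * u := fun {u v} hu hv =>
    congrArg Subtype.val (hab.1.1 ⟨u, hu⟩ ⟨v, hv⟩)
  obtain ⟨k, hk⟩ := (isPGroup_Q hS h2) ⟨x, hx⟩
  have hk' : x ^ 2 ^ k = 1 := congrArg Subtype.val hk
  clear hk
  induction k generalizing x with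
  | zero => rw [pow_zero, pow_one] at hk'; rw [hk', mul_one, one_mul]
  | succ k ih =>
    have hsq : w * (x * x) = x * x * w := ih (x * x) (mul_mem hx hx) (by
      rw [← pow_two, ← pow_mul, ← pow_succ']; exact hk')
    have hwx : w * x * w⁻¹ ∈ Q := hS.conj_mem w (two_le hS hwD) x hx
    set y := w * x * w⁻¹ * x⁻¹ with hy
    have hyQ : y ∈ Q := mul_mem hwx (inv_mem hx)
    have hy2 : y * y = 1 := by
      calc y * y = w * x * w⁻¹ * (x⁻¹ * (w * x * w⁻¹)) * x⁻¹ := by rw [hy]; group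
        _ = w * x * w⁻¹ * ((w * x * w⁻¹) * x⁻¹) * x⁻¹ := by rw [hQ (inv_mem hx) hwx]
        _ = w * (x * x) * w⁻¹ * (x * x)⁻¹ := by group
        _ = 1 := by rw [hsq]; group
    have hwy : w * y = y * w := by
      by_cases h1 : y = 1
      · rw [h1, mul_one, one_mul]
      · exact kernelW_commute hS hw ⟨hS.le hyQ, h1, hy2⟩
    exact commute_of_conj_eq_mul hwy hy2 (by rw [hy]; group) hn (pow_orderOf_eq_one w)

theorem kernelW_eq_bot_of_square (hsuz : IsSuzukiTwoGroup Q)
    (hcard : Nat.card Q = Nat.card (Subgroup.center Q) ^ 2) : kernelW G a t = ⊥ := by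
  obtain ⟨hinv, hZ⟩ := Cfsg.Agent.S1137.result hsuz
  obtain ⟨hsq, -, -, hexp⟩ := Cfsg.Agent.S1138.result hsuz
  have hzx : ∀ x z : Q, z ∈ Subgroup.center Q → x * z * (x * z) = x * x := fun x z hz => by
    have hc : z * x = x * z := ((Subgroup.mem_center_iff.mp hz) x).symm
    calc x * z * (x * z) = x * (z * x) * z := by group
      _ = x * x * (z * z) := by rw [hc]; group
      _ = x * x := by rw [hZ z hz, mul_one]
  let sq : (Q ⧸ Subgroup.center Q) → Subgroup.center Q := Quotient.lift (fun x => ⟨x * x, hsq x⟩)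
    (fun x y h => Subtype.ext (by
      have hz : x⁻¹ * y ∈ Subgroup.center Q := QuotientGroup.leftRel_apply.mp h
      change x * x = y * y
      have h' := hzx x _ hz
      rw [mul_inv_cancel_left] at h'
      exact h'.symm))
  have hsurj : Function.Surjective sq := by
    obtain ⟨x0, hx0⟩ : ∃ x : Q, x * x ≠ 1 := by
      by_contra h
      push Not at h
      have : Monoid.exponent Q ∣ 2 := Monoid.exponent_dvd_of_forall_pow_eq_one fun x => by
        rw [pow_two]; exact h x
      rw [hexp] at this; exact absurd this (by norm_num)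
    rintro ⟨z, hz⟩
    by_cases hz1 : z = 1
    · exact ⟨QuotientGroup.mk 1, Subtype.ext (by change (1 : Q) * 1 = z; rw [hz1, one_mul])⟩
    obtain ⟨-, -, -, -, K, -, htr⟩ := hsuz
    obtain ⟨k, hk, -⟩ := htr (x0 * x0) z hx0 (hZ _ (hsq x0)) hz1 (hZ z hz)
    exact ⟨QuotientGroup.mk ((k : MulAut Q) x0), Subtype.ext (by
      change (k : MulAut Q) x0 * (k : MulAut Q) x0 = z
      rw [← map_mul]; exact hk)⟩
  have hinj : Function.Injective sq := by
    refine (hsurj.bijective_of_nat_card_le ?_).1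
    have h := Subgroup.card_eq_card_quotient_mul_card_subgroup (Subgroup.center Q)
    rw [hcard, pow_two] at h
    exact (Nat.eq_of_mul_eq_mul_right Nat.card_pos h).symm.le
  refine (Subgroup.eq_bot_iff_forall _).mpr fun w hw => ?_
  have hwD := (mem_kernelW.mp hw).1
  refine faithful_on_Q hS hwD fun x hx => ?_
  have hn : Odd (orderOf w) := hS.odd_card.of_dvd_nat (by
    have := orderOf_dvd_natCard (G := two G a t) ⟨w, hwD⟩
    rwa [← Subgroup.orderOf_coe] at this)
  have hfix : ∀ z : Q, z ∈ Subgroup.center Q → w * (z : G) = z * w := fun z hz => by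
    by_cases hz1 : z = 1
    · rw [hz1, OneMemClass.coe_one, mul_one, one_mul]
    · exact kernelW_commute hS hw ⟨hS.le z.2, fun h => hz1 (Subtype.ext h),
        congrArg Subtype.val (hZ z hz)⟩
  set x' : Q := ⟨w * x * w⁻¹, hS.conj_mem w (two_le hS hwD) x hx⟩ with hx'
  have he : x' * x' = (⟨x, hx⟩ : Q) * ⟨x, hx⟩ := Subtype.ext (by
    have h := hfix (⟨x, hx⟩ * ⟨x, hx⟩) (hsq _)
    calc w * x * w⁻¹ * (w * x * w⁻¹) = w * (x * x) * w⁻¹ := by group
      _ = x * x := by rw [show w * (x * x) = x * x * w from h, mul_inv_cancel_right])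
  have hq : (QuotientGroup.mk x' : Q ⧸ Subgroup.center Q) = QuotientGroup.mk ⟨x, hx⟩ :=
    hinj (Subtype.ext he)
  set z : Q := x' * (⟨x, hx⟩ : Q)⁻¹ with hzdef
  have hzC : z ∈ Subgroup.center Q := by
    have hz : x'⁻¹ * ⟨x, hx⟩ ∈ Subgroup.center Q := QuotientGroup.eq.mp hq
    have h := Subgroup.Normal.conj_mem inferInstance _ (inv_mem hz) x'
    simpa [hzdef, mul_assoc] using h
  exact commute_of_conj_eq_mul (y := (z : G)) (hfix z hzC) (congrArg Subtype.val (hZ z hzC))
    (by simp [hzdef, hx']) hn (pow_orderOf_eq_one w)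

/-- `W` is trivial or `Q` is a Suzuki 2-group of order `|Z(Q)|³`. -/
theorem kernelW_dichotomy : kernelW G a t = ⊥ ∨
    (IsSuzukiTwoGroup Q ∧ Nat.card Q = Nat.card (Subgroup.center Q) ^ 3) := by
  rcases abelian_or_suzuki hS h2 with h | h
  · exact Or.inl (kernelW_eq_bot_of_abelian hS h2 h)
  · rcases (Cfsg.Agent.S1138.result h).2.2.1 with h3 | h3
    · exact Or.inl (kernelW_eq_bot_of_square hS h2 h h3)
    · exact Or.inr ⟨h, h3⟩

end CfsgLib.RankOne
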