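import Cfsg.Agent.Lib.RankOne.Split.CubeCoords
import Cfsg.Agent.Lib.RankOne.Split.Dichotomy
import Cfsg.Agent.Lib.RankOne.UnitaryUnique.Coords
import Cfsg.Agent.S1122
import Cfsg.Agent.S1128
import Cfsg.Agent.S1130
import Cfsg.Agent.S1131

/-!
# Coordinates on `Q` when `W` is nontrivial
-/

set_option autoImplicit false
set_option linter.style.haveILetI false

open Cfsg

namespace CfsgLib.RankOne

open MulAction UnitaryUnique CfsgLib.Classical

universe u v

variable {G : Type u} {Ω : Type v} [Group G] [Finite G] [MulAction G Ω] {a : Ω} {t : G}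
  {Q : Subgroup G} (hS : IsRankOneSetup G Ω a t Q)

/-- The two-point stabiliser acts on `Q` by conjugation. -/
def conjQ : ↥(two G a t) →* MulAut Q where
  toFun d :=
    { toFun := fun x => ⟨(d : G) * x * (d : G)⁻¹, hS.conj_mem _ (two_le hS d.2) x x.2⟩
      invFun := fun x => ⟨(d : G)⁻¹ * x * d, by
        simpa using hS.conj_mem _ (inv_mem (two_le hS d.2)) x x.2⟩
      left_inv := fun x => Subtype.ext (by
        change (d : G)⁻¹ * ((d : G) * x * (d : G)⁻¹) * d = x
        group)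
      right_inv := fun x => Subtype.ext (by
        change (d : G) * ((d : G)⁻¹ * x * d) * (d : G)⁻¹ = x
        group)
      map_mul' := fun x y => Subtype.ext (by
        change (d : G) * ((x : G) * y) * (d : G)⁻¹ = (d : G) * x * (d : G)⁻¹ * ((d : G) * y * (d : G)⁻¹)
        group) }
  map_one' := MulEquiv.ext fun x => Subtype.ext (by
    change ((1 : two G a t) : G) * x * ((1 : two G a t) : G)⁻¹ = x
    simp)
  map_mul' d e := MulEquiv.ext fun x => Subtype.ext (by
    change ((d * e : two G a t) : G) * x * ((d * e : two G a t) : G)⁻¹ =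
      (d : G) * ((e : G) * x * (e : G)⁻¹) * (d : G)⁻¹
    rw [Subgroup.coe_mul]
    group)

theorem conjQ_coe (d : two G a t) (x : Q) :
    ((conjQ hS d x : Q) : G) = (d : G) * x * (d : G)⁻¹ := rfl

variable [FaithfulSMul G Ω]
  (h2 : ∃ x y : G, x ≠ 1 ∧ y ≠ 1 ∧ x ≠ y ∧ x * x = 1 ∧ y * y = 1 ∧ x * y = y * x)

include hS h2

theorem center_invol (hQ : IsSuzukiTwoGroup Q) {z : Q} (hz : z ∈ Subgroup.center Q) (hz1 : z ≠ 1) :
    (z : G) ∈ involutionsIn (stabilizer G a : Set G) :=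
  ⟨hS.le z.2, fun e => hz1 (Subtype.ext e),
    congrArg Subtype.val ((Cfsg.Agent.S1137.result hQ).2 z hz)⟩

/-- The action of `D` on a Suzuki group `Q` of order `q³`. -/
theorem cube_hyp (hQ : IsSuzukiTwoGroup Q)
    (hcard : Nat.card Q = Nat.card (Subgroup.center Q) ^ 3) :
    ∃ C : Subgroup (two G a t), (∀ d : two G a t, d ∈ C ↔ (d : G) ∈ invertedBy (two G a t) t) ∧
      Cube.Hyp C (conjQ hS) := by
  obtain ⟨h37a, h37b⟩ := Cfsg.Agent.S1137.result hQ
  obtain ⟨h38, -⟩ := Cfsg.Agent.S1138.result hQ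
  obtain ⟨Cs, hCs, hcyc, hnorm⟩ := Cfsg.Agent.S1131.result hS h2
  have hmem : ∀ g : G, g ∈ Cs ↔ g ∈ invertedBy (two G a t) t := fun g => by
    rw [← SetLike.mem_coe, hCs]
  refine ⟨Cs.subgroupOf (two G a t), fun d => by rw [Subgroup.mem_subgroupOf, hmem], ?_⟩
  refine ⟨fun d e he => ?_, hS.odd_card, h38, h37b, fun x hx => ?_, hcard, ?_,
    fun c hc c' hc' => ?_, fun d c hc => ?_, fun z hz z' hz' hz1 hz1' => ?_, fun c hc hc1 x hx => ?_⟩
  · refine Subtype.ext (inv_mul_eq_one.mp (faithful_on_Q hS (d := (d : G)⁻¹ * e)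
      (mul_mem (inv_mem d.2) e.2) fun x hx => ?_))
    have h1 : (d : G) * x * (d : G)⁻¹ = (e : G) * x * (e : G)⁻¹ := by
      have := congrArg (fun f : MulAut Q => ((f ⟨x, hx⟩ : Q) : G)) he
      exact this
    calc (d : G)⁻¹ * e * x = (d : G)⁻¹ * ((e : G) * x * (e : G)⁻¹) * e := by group
      _ = x * ((d : G)⁻¹ * e) := by rw [← h1]; group
  · by_cases h1 : x = 1
    · rw [h1]; exact one_mem _
    · exact ((h37a x).mp ⟨h1, hx⟩).1
  · obtain ⟨x, y, hxy, hx1, hx, hy1, hy⟩ := hQ.2.2.2.1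
    haveI := Fintype.ofFinite (Subgroup.center Q)
    rw [Nat.card_eq_fintype_card, Fintype.two_lt_card_iff]
    refine ⟨1, ⟨x, ((h37a x).mp ⟨hx1, hx⟩).1⟩, ⟨y, ((h37a y).mp ⟨hy1, hy⟩).1⟩, ?_, ?_, ?_⟩
    · exact fun e => hx1 (congrArg Subtype.val e).symm
    · exact fun e => hy1 (congrArg Subtype.val e).symm
    · exact fun e => hxy (congrArg Subtype.val e)
  · have := hcyc.commutative.1.1 (⟨(c : G), hc⟩ : Cs) ⟨(c' : G), hc'⟩
    exact Subtype.ext (congrArg (fun x : Cs => (x : G)) this)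
  · exact hnorm d d.2 c hc
  · obtain ⟨k, hk, hks⟩ := (Cfsg.Agent.S1122.result hS).2 _ (center_invol hS h2 hQ hz hz1) _
      (center_invol hS h2 hQ hz' hz1')
    refine ⟨⟨k⁻¹, inv_mem hk.1⟩, ?_, Subtype.ext ?_⟩
    · rw [Subgroup.mem_subgroupOf]
      exact inv_mem ((hmem k).mpr hk)
    · rw [conjQ_coe, inv_inv]
      exact hks
  · have hb := Cfsg.Agent.S1128.result hS h2 (c : G) ((hmem _).mp hc) fun e => hc1 (Subtype.ext e)
    have hxc : (x : G) ∈ Q ⊓ Subgroup.centralizer {(c : G)} :=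
      ⟨x.2, Subgroup.mem_centralizer_singleton_iff.mpr (by
        have h1 : (c : G) * x * (c : G)⁻¹ = x := congrArg Subtype.val hx
        exact (mul_inv_eq_iff_eq_mul.mp h1).symm)⟩
    rw [hb] at hxc
    exact Subtype.ext (Subgroup.mem_bot.mp hxc)

/-- If `W` is nontrivial then `Q` has unitary coordinates up to a multiplier. -/
theorem exists_ucoord₀ (hW : kernelW G a t ≠ ⊥) :
    ∃ (F : Type) (_ : Field F) (_ : Fintype F) (_ : CharP F 2) (σ : F →+* F) (q : ℕ),
      (∃ n, 2 ≤ n ∧ q = 2 ^ n) ∧ Nonempty (UCoord₀ a t Q F σ q) := by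
  classical
  obtain ⟨hQ, hcard⟩ := (kernelW_dichotomy hS h2).resolve_left hW
  obtain ⟨C, hC, H⟩ := cube_hyp hS h2 hQ hcard
  obtain ⟨w0, hw0, hw01⟩ := (Subgroup.ne_bot_iff_exists_ne_one.mp hW).elim
    fun x hx => (⟨x.1, x.2, fun e => hx (Subtype.ext e)⟩ : ∃ g, g ∈ kernelW G a t ∧ g ≠ 1)
  obtain ⟨hw0D, -, hw0C⟩ := mem_kernelW.mp hw0
  have hker : (⟨w0, hw0D⟩ : two G a t) ∈ Cube.ker₀ C (conjQ hS) := by
    refine ⟨fun z hz => Subtype.ext ?_, fun c hc => Subtype.ext (hw0C _ ((hC c).mp hc)).symm⟩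
    rw [conjQ_coe]
    by_cases hz1 : z = 1
    · simp [hz1]
    · exact mul_inv_eq_iff_eq_mul.mpr (kernelW_commute hS hw0 (center_invol hS h2 hQ hz hz1))
  obtain ⟨E, _, _, _, ⟨K⟩⟩ :=
    Cube.exists_coords H hker fun e => hw01 (congrArg Subtype.val e)
  set n := K.n with hn
  have hn2 := K.two_le
  haveI : Fact (Nat.Prime 2) := ⟨Nat.prime_two⟩
  let F := GaloisField 2 (2 * n)
  haveI : Fintype F := Fintype.ofFinite _
  have hF : Fintype.card F = (2 ^ n) ^ 2 := by
    rw [← Nat.card_eq_fintype_card, GaloisField.card 2 _ (by omega), ← pow_mul, mul_comm]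
  let j : E ≃+* F := FiniteField.ringEquivOfCardEq (K.card_field.trans hF.symm)
  let σ : F →+* F := iterateFrobenius F 2 n
  have hσ : ∀ x, σ x = x ^ 2 ^ n := fun x => iterateFrobenius_def 2 n x
  have hfixE : ∀ z : Fix σ, (j.symm (z : F)) ^ 2 ^ n = j.symm (z : F) := fun z => by
    rw [← map_pow, ← hσ]
    exact congrArg j.symm z.2
  have hfixF : ∀ e : E, e ^ 2 ^ n = e → σ (j e) = j e := fun e he => by rw [hσ, ← map_pow, he]
  let toFix : ∀ e : E, e ^ 2 ^ n = e → Fix σ := fun e he => ⟨j e, hfixF e he⟩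
  let φ : Fix σ →*₀ Fix σ :=
    { toFun := fun l => toFix (K.φ (j.symm l)) (K.φ_fix _ (hfixE l))
      map_zero' := Subtype.ext (by
        change j (K.φ (j.symm ((0 : Fix σ) : F))) = 0
        rw [ZeroMemClass.coe_zero, map_zero, K.φ_zero, map_zero])
      map_one' := Subtype.ext (by
        change j (K.φ (j.symm ((1 : Fix σ) : F))) = 1
        rw [OneMemClass.coe_one, map_one, K.φ_one, map_one])
      map_mul' := fun l m => Subtype.ext (by
        change j (K.φ (j.symm ((l * m : Fix σ) : F))) =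
          j (K.φ (j.symm (l : F))) * j (K.φ (j.symm (m : F)))
        rw [← map_mul, show ((l * m : Fix σ) : F) = (l : F) * m from rfl, map_mul,
          K.φ_mul _ _ (hfixE l) (hfixE m)]) }
  let π : G → F := fun x => if hx : x ∈ Q then j (K.π ⟨x, hx⟩) else 0
  have hπ : ∀ (x : G) (hx : x ∈ Q), π x = j (K.π ⟨x, hx⟩) := fun x hx => dif_pos hx
  let ι : Fix σ → G := fun z => ((K.ι (j.symm (z : F)) : Q) : G)
  have hconj : ∀ (d : two G a t) (x : G), x ∈ Q → (d : G) * x * (d : G)⁻¹ ∈ Q := fun d x hx =>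
    hS.conj_mem _ (two_le hS d.2) x hx
  have hπd : ∀ (d : two G a t) (x : G) (hx : x ∈ Q),
      π ((d : G) * x * (d : G)⁻¹) = j (K.π (conjQ hS d ⟨x, hx⟩)) := fun d x hx =>
    hπ _ (hconj d x hx)
  have hεσ : j K.ε * σ (j K.ε) = 1 := by
    rw [hσ, ← pow_succ', ← map_pow, K.ε_norm, map_one]
  have hε1 : j K.ε ≠ 1 := fun e => K.ε_ne (j.injective (by rw [e, map_one]))
  have hsame : ∀ z, ι z ∈ Q := fun z => (K.ι (j.symm (z : F))).2
  -- the scalar of an element of `C`
  have hscal : ∀ l : Fix σ, l ≠ 0 → ∃ k ∈ invertedBy (two G a t) t,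
      (∀ x ∈ Q, π (k * x * k⁻¹) = (φ l : F) * π x) ∧ ∀ z, k * ι z * k⁻¹ = ι (l * l * z) := by
    intro l hl
    obtain ⟨c, hc, hcπ, hcι⟩ := K.exists_scalar (j.symm (l : F)) (hfixE l) fun e =>
      hl (Subtype.ext (j.symm.map_eq_zero_iff.mp e))
    refine ⟨c, (hC c).mp hc, fun x hx => ?_, fun z => ?_⟩
    · rw [hπd c x hx, hcπ, hπ x hx, map_mul]
      rfl
    · change ((conjQ hS c (K.ι (j.symm (z : F))) : Q) : G) =
        ((K.ι (j.symm ((l * l * z : Fix σ) : F)) : Q) : G)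
      rw [hcι _ (hfixE z), show ((l * l * z : Fix σ) : F) = (l : F) * l * z from rfl, map_mul, map_mul]
  have hιinj : Function.Injective ι := fun y z e => Subtype.ext
    (j.symm.injective (K.ι_inj _ _ (hfixE y) (hfixE z) (Subtype.ext e)))
  have hιadd : ∀ z z', ι (z + z') = ι z * ι z' := fun z z' => by
    change ((K.ι (j.symm ((z + z' : Fix σ) : F)) : Q) : G) = _
    rw [show ((z + z' : Fix σ) : F) = (z : F) + z' from rfl, map_add, K.ι_add _ _ (hfixE z) (hfixE z')]
    rfl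
  have hιsurj : ∀ x : Q, x ∈ Subgroup.center Q → ∃ z, ι z = (x : G) := fun x hx => by
    obtain ⟨e, he, hex⟩ := K.ι_surj x hx
    refine ⟨toFix e he, ?_⟩
    change ((K.ι (j.symm (j e)) : Q) : G) = _
    rw [j.symm_apply_apply, hex]
  refine ⟨F, inferInstance, inferInstance, inferInstance, σ, 2 ^ n, ⟨n, hn2, rfl⟩,
    ⟨⟨π, ι, φ, j K.ε, ⟨fun x => ?_, fun e => ?_⟩, ⟨hF, hσ⟩, ?_, ?_, fun c => ?_, fun x hx => ?_,
      fun x hx hx2 => ?_, hsame, hιadd, hιinj, fun z x hx => ?_, ?_, fun d hd => ?_, hscal, ?_, hεσ,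
      hε1⟩⟩⟩
  · rw [hσ, hσ, ← pow_mul, ← pow_two, ← hF, FiniteField.pow_card]
  · rw [e, RingHom.id_apply] at hεσ
    have h4 : (j K.ε + 1) * (j K.ε + 1) = 0 := by
      rw [CharTwo.add_mul_self, hεσ, one_mul, CharTwo.add_self_eq_zero]
    exact hε1 (CharTwo.add_eq_zero.mp (mul_self_eq_zero.mp h4))
  · calc 4 = 2 ^ 2 := by norm_num
      _ ≤ 2 ^ n := Nat.pow_le_pow_right (by norm_num) hn2
  · intro x hx y hy
    rw [hπ x hx, hπ y hy, hπ _ (mul_mem hx hy), ← map_add, ← K.π_mul]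
    rfl
  · obtain ⟨x, hx⟩ := K.π_surj (j.symm c)
    exact ⟨x, x.2, by rw [hπ _ x.2, show (⟨(x : G), x.2⟩ : Q) = x from rfl, hx, j.apply_symm_apply]⟩
  · rw [hπ x hx, j.map_eq_zero_iff, K.π_eq_zero]
    refine ⟨fun h => hιsurj ⟨x, hx⟩ h, ?_⟩
    rintro ⟨z, rfl⟩
    exact K.ι_mem _
  · rw [hπ x hx, j.map_eq_zero_iff, K.π_eq_zero]
    exact H.invol _ (Subtype.ext hx2)
  · exact (congrArg Subtype.val (Subgroup.mem_center_iff.mp (K.ι_mem (j.symm (z : F))) ⟨x, hx⟩)).symm
  · intro l m e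
    refine Subtype.ext (j.symm.injective (K.φ_inj _ _ (hfixE l) (hfixE m) (j.injective ?_)))
    exact congrArg Subtype.val e
  · obtain ⟨u, τ, hu, hτ, hd'⟩ := K.semilinear ⟨d, hd⟩
    let τF : F ≃+* F := (j.symm.trans τ).trans j
    have hτF : Odd (orderOf τF) := by
      refine hτ.of_dvd_nat (orderOf_dvd_of_pow_eq_one ?_)
      have hk : ∀ m : ℕ, ∀ x, (τF ^ m) x = j ((τ ^ m) (j.symm x)) := by
        intro m
        induction m with
        | zero => intro x; simp
        | succ m ih =>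
          intro x
          rw [pow_succ', RingAut.mul_apply, ih, pow_succ', RingAut.mul_apply]
          change j (τ (j.symm (j _))) = _
          rw [j.symm_apply_apply]
      exact RingEquiv.ext fun x => by rw [hk, pow_orderOf_eq_one]; simp
    -- the semilinear map on the centre
    have hex : ∀ z : Fix σ, ∃ y : Fix σ, ι y = d * ι z * d⁻¹ := fun z =>
      hιsurj _ (Cube.center_image (conjQ hS ⟨d, hd⟩) (K.ι_mem (j.symm (z : F))))
    choose f hf using hex
    have hfadd : ∀ y z, f (y + z) = f y + f z := fun y z => hιinj (by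
      rw [hf, hιadd, hιadd, hf, hf]; group)
    have hfinj : Function.Injective f := fun y z e => hιinj (by
      have := hf y
      rw [e, hf z] at this
      exact mul_left_cancel (mul_right_cancel this.symm))
    set ν := f 1 with hν
    have hν0 : ν ≠ 0 := fun e => one_ne_zero (hfinj (e.trans (by
      have h0 := hfadd 0 0
      rwa [add_zero, left_eq_add, eq_comm] at h0)))
    -- multiplicativity
    have hkey : ∀ l : Fix σ, l ≠ 0 → ∃ μ : Fix σ, ∀ z, f (l * l * z) = μ * f z := by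
      intro l hl
      obtain ⟨k, hk, -, hkι⟩ := hscal l hl
      have hk' : (⟨d, hd⟩ * ⟨k, hk.1⟩ * ⟨d, hd⟩⁻¹ : two G a t) ∈ C :=
        H.norm _ _ ((hC _).mpr hk)
      obtain ⟨m, hm, -, -, hmι⟩ := K.scalar _ hk'
      refine ⟨toFix m hm * toFix m hm, fun z => hιinj ?_⟩
      rw [hf, ← hkι]
      have h1 := congrArg Subtype.val (hmι _ (hfixE (f z)))
      change d * k * d⁻¹ * ι (f z) * (d * k * d⁻¹)⁻¹ =
        ((K.ι (m * m * j.symm ((f z : Fix σ) : F)) : Q) : G) at h1
      rw [hf] at h1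
      change _ = ((K.ι (j.symm (j m * j m * ((f z : Fix σ) : F))) : Q) : G)
      rw [map_mul, map_mul, j.symm_apply_apply, ← h1]
      group
    have hsqrt : ∀ y : Fix σ, ∃ l, l * l = y := fun y => by
      haveI : CharP (Fix σ) 2 := RingHom.charP (Fix σ).subtype Subtype.val_injective 2
      obtain ⟨l, hl⟩ := (frobeniusEquiv (Fix σ) 2).surjective y
      exact ⟨l, by rw [← hl, frobeniusEquiv_apply, frobenius_def, pow_two]⟩
    have hmul : ∀ y z, ν * f (y * z) = f y * f z := fun y z => by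
      obtain ⟨l, rfl⟩ := hsqrt y
      by_cases hl : l = 0
      · subst hl
        have h0 : f 0 = 0 := by
          have h0 := hfadd 0 0
          rwa [add_zero, left_eq_add] at h0
        simp [h0]
      · obtain ⟨μ, hμ⟩ := hkey l hl
        have h1 := hμ 1
        rw [mul_one, ← hν] at h1
        rw [hμ, h1]
        ring
    let T : Fix σ →+* Fix σ :=
      { toFun := fun z => ν⁻¹ * f z
        map_one' := by rw [← hν, inv_mul_cancel₀ hν0]
        map_mul' := fun y z => by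
          calc ν⁻¹ * f (y * z) = ν⁻¹ * ν⁻¹ * (ν * f (y * z)) := by field_simp
            _ = ν⁻¹ * f y * (ν⁻¹ * f z) := by rw [hmul]; ring
        map_zero' := by
          have h0 := hfadd 0 0
          rw [add_zero, left_eq_add] at h0
          rw [h0, mul_zero]
        map_add' := fun y z => by rw [hfadd, mul_add] }
    let T' : Fix σ ≃+* Fix σ := RingEquiv.ofBijective T
      ⟨fun y z e => hfinj (mul_left_cancel₀ (inv_ne_zero hν0) e),
        Finite.injective_iff_surjective.mp fun y z e => hfinj (mul_left_cancel₀ (inv_ne_zero hν0) e)⟩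
    refine ⟨j u, τF, ν, T', fun e => hu (j.map_eq_zero_iff.mp e), hτF, fun x hx => ?_, fun z => ?_⟩
    · rw [hπd ⟨d, hd⟩ x hx, hd', map_mul, hπ x hx]
      change _ = j u * j (τ (j.symm (j (K.π _))))
      rw [j.symm_apply_apply]
    · rw [show ν * T' z = f z by change ν * (ν⁻¹ * f z) = f z; rw [mul_inv_cancel_left₀ hν0], hf]
  · refine ⟨(K.w : G), K.w.2, ?_, fun x hx => ?_, fun z => ?_⟩
    · have hwk : (K.w : G) ∈ kernelW G a t := by
        have e : kernelW G a t =
            two G a t ⊓ Subgroup.centralizer (involutionsIn (stabilizer G a : Set G)) :=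
          (Cfsg.Agent.S1127.result hS).2
        rw [e]
        refine ⟨K.w.2, Subgroup.mem_centralizer_iff.mpr ?_⟩
        intro s hs
        obtain ⟨hsQ, hsc⟩ := (Cfsg.Agent.S1130.result hS h2).1 s hs
        have h1 := congrArg Subtype.val (K.w_mem.1 ⟨s, hsQ⟩
          (Subgroup.mem_center_iff.mpr fun g => Subtype.ext (hsc g g.2).symm))
        rw [conjQ_coe] at h1
        exact (mul_inv_eq_iff_eq_mul.mp h1).symm
      exact mul_inv_eq_iff_eq_mul.mpr (mem_kernelW.mp hwk).2.1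
    · rw [hπd K.w x hx, K.w_act, map_mul, hπ x hx]
    · exact congrArg Subtype.val (K.w_mem.1 _ (K.ι_mem (j.symm (z : F))))

end CfsgLib.RankOne
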