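import Mathlib

/-!
# The field of an irreducible abelian action, and a criterion for commutativity

An abelian group acting irreducibly on a finite elementary abelian `2`-group acts by multiplications
of a field, which is the whole commutant. A finite group in which every centraliser of a nontrivial
element is commutative, and in which no nontrivial element commutes with a different conjugate, is
commutative.
-/

set_option autoImplicit false

namespace CfsgLib.RankOne.SimpleField

universe u v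

/-- Schur's lemma for a commutative irreducible action. -/
theorem exists_field_of_simple {V : Type u} [AddCommGroup V] [Finite V] (hV : ∀ v : V, v + v = 0)
    {A : Type v} [CommGroup A] (act : A →* AddMonoid.End V) (v₀ : V) (hv₀ : v₀ ≠ 0)
    (hsimple : ∀ U : AddSubgroup V, U ≠ ⊥ → (∀ a, ∀ u ∈ U, act a u ∈ U) → U = ⊤) :
    ∃ (K : Type u) (_ : Field K) (_ : Fintype K) (_ : CharP K 2) (e : K ≃+ V),
      e 1 = v₀ ∧ (∀ a, ∃ s : K, s ≠ 0 ∧ ∀ x, act a (e x) = e (s * x)) ∧
      (∀ f : AddMonoid.End V, (∀ a x, f (act a x) = act a (f x)) →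
        ∃ s : K, ∀ x, f (e x) = e (s * x)) := by
  classical
  let R := Subring.closure (Set.range act)
  let K := Subring.centralizer (Set.range act)
  have hactR : ∀ a, act a ∈ R := fun a => Subring.subset_closure ⟨a, rfl⟩
  have hRK : R ≤ K := Subring.closure_le.mpr <| by
    rintro _ ⟨a, rfl⟩
    rw [SetLike.mem_coe, Subring.mem_centralizer_iff]
    rintro _ ⟨b, rfl⟩
    rw [← map_mul, ← map_mul, mul_comm]
  have hK : ∀ {f : AddMonoid.End V}, f ∈ K → ∀ a x, act a (f x) = f (act a x) := fun {f} hf a x =>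
    DFunLike.congr_fun (Subring.mem_centralizer_iff.mp hf _ ⟨a, rfl⟩) x
  -- a commuting map killing `v₀` is zero
  have hdet : ∀ f g : K, f.1 v₀ = g.1 v₀ → f = g := fun f g h => by
    let k : V →+ V := (f - g : K).1
    have hU : k.ker = ⊤ := by
      refine hsimple _ ?_ fun a u hu => ?_
      · intro hb
        refine hv₀ ((AddSubgroup.eq_bot_iff_forall _).mp hb v₀ ?_)
        refine AddMonoidHom.mem_ker.mpr ?_
        change f.1 v₀ - g.1 v₀ = 0
        rw [h, sub_self]
      · refine AddMonoidHom.mem_ker.mpr ?_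
        change (f - g : K).1 (act a u) = 0
        rw [← hK (f - g).2 a u]
        exact (congrArg (act a) (AddMonoidHom.mem_ker.mp hu)).trans (map_zero _)
    refine Subtype.ext (DFunLike.ext _ _ fun x => sub_eq_zero.mp ?_)
    exact AddMonoidHom.mem_ker.mp (hU ▸ AddSubgroup.mem_top x)
  -- the orbit of a nonzero vector under the ring is everything
  have horb : ∀ w x : V, w ≠ 0 → ∃ r ∈ R, (r : AddMonoid.End V) w = x := fun w x hw => by
    let ev : R →+ V := ⟨⟨fun r => r.1 w, rfl⟩, fun _ _ => rfl⟩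
    have hU : ev.range = ⊤ := by
      refine hsimple _ ?_ ?_
      · intro hb
        exact hw ((AddSubgroup.eq_bot_iff_forall _).mp hb w ⟨1, rfl⟩)
      · rintro a _ ⟨r, rfl⟩
        exact ⟨⟨act a * r.1, mul_mem (hactR a) r.2⟩, rfl⟩
    obtain ⟨r, hr⟩ := (hU ▸ AddSubgroup.mem_top x : x ∈ ev.range)
    exact ⟨r.1, r.2, hr⟩
  have hKR : ∀ f : K, f.1 ∈ R := fun f => by
    obtain ⟨r, hr, hrv⟩ := horb v₀ (f.1 v₀) hv₀
    have h := hdet f ⟨r, hRK hr⟩ hrv.symm
    rw [h]
    exact hr
  have hcomm : ∀ f g : K, f * g = g * f := fun f g => Subtype.ext <| by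
    have hg : g.1 ∈ Subring.centralizer (Set.range act) := g.2
    have hR : R ≤ Subring.centralizer {g.1} := Subring.closure_le.mpr <| by
      rintro _ ⟨a, rfl⟩
      rw [SetLike.mem_coe, Subring.mem_centralizer_iff]
      rintro _ rfl
      exact (Subring.mem_centralizer_iff.mp hg _ ⟨a, rfl⟩).symm
    exact (Subring.mem_centralizer_iff.mp (hR (hKR f)) g.1 rfl).symm
  let ev : K →+ V := ⟨⟨fun f => f.1 v₀, rfl⟩, fun _ _ => rfl⟩
  have hev : Function.Bijective ev := ⟨hdet, fun x => by
    obtain ⟨r, hr, hrv⟩ := horb v₀ x hv₀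
    exact ⟨⟨r, hRK hr⟩, hrv⟩⟩
  haveI : Finite K := Finite.of_injective ev hev.1
  have hfield : IsField K := by
    refine ⟨⟨0, 1, fun e => hv₀ (congrArg (fun f : K => f.1 v₀) e).symm⟩, hcomm, fun {f} hf => ?_⟩
    have hf0 : f.1 v₀ ≠ 0 := fun h => hf (hdet f 0 h)
    obtain ⟨r, hr, hrv⟩ := horb (f.1 v₀) v₀ hf0
    exact ⟨⟨r, hRK hr⟩, by rw [hcomm]; exact hdet _ 1 hrv⟩
  letI : Field K := hfield.toField
  haveI : Fintype K := Fintype.ofFinite _
  have htwo : (2 : K) = 0 := hev.1 (by
    change (2 : K).1 v₀ = (0 : K).1 v₀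
    rw [show (2 : K).1 v₀ = v₀ + v₀ by rw [← one_add_one_eq_two]; rfl, hV]
    rfl)
  haveI : CharP K 2 := CharTwo.of_one_ne_zero_of_two_eq_zero one_ne_zero htwo
  refine ⟨K, inferInstance, inferInstance, inferInstance, AddEquiv.ofBijective ev hev, rfl,
    fun a => ⟨⟨act a, hRK (hactR a)⟩, fun h => hv₀ ?_, fun x => rfl⟩, fun f hf => ?_⟩
  · have h1 : act a = 0 := congrArg Subtype.val h
    have h2 : act (a⁻¹ * a) v₀ = act a⁻¹ (act a v₀) := by rw [map_mul]; rfl
    rw [inv_mul_cancel, map_one, h1] at h2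
    exact h2.trans (map_zero _)
  · refine ⟨⟨f, Subring.mem_centralizer_iff.mpr ?_⟩, fun x => rfl⟩
    rintro _ ⟨a, rfl⟩
    exact DFunLike.ext _ _ fun x => (hf a x).symm

section Commutative

variable {W : Type*} [Group W] [Finite W]

/-- Centralisers commutative and no nontrivial element commuting with a different conjugate of itself:
the group is commutative. -/
theorem commute_of_ti (hc : ∀ x : W, x ≠ 1 → ∀ y z : W, Commute y x → Commute z x → Commute y z)
    (hn : ∀ x : W, x ≠ 1 → ∀ g : W, Commute (g * x * g⁻¹) x → Commute g x) (x y : W) :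
    Commute x y := by
  classical
  by_contra hxy
  have hx1 : x ≠ 1 := fun h => hxy (h ▸ Commute.one_left y)
  let A : W → Subgroup W := fun z => Subgroup.centralizer {z}
  have hA : ∀ {z g : W}, g ∈ A z ↔ Commute g z := fun {z g} => by
    rw [Subgroup.mem_centralizer_singleton_iff]
    rfl
  -- the nontrivial conjugates of elements of a centraliser
  let Uc : W → Set W := fun z => {w | ∃ g v : W, v ≠ 1 ∧ Commute v z ∧ w = g * v * g⁻¹}
  have hconj : ∀ {z v : W}, z ≠ 1 → v ≠ 1 → Commute v z → ∀ {g : W}, Commute g v ↔ Commute g z :=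
    fun {z v} hz hv hvz {g} => ⟨fun h => hc v hv g z h hvz.symm, fun h => hc z hz g v h hvz⟩
  have hcardU : ∀ z : W, z ≠ 1 → Nat.card (Uc z) = (A z).index * (Nat.card (A z) - 1) := by
    intro z hz
    let f : (W ⧸ A z) × {v : A z // v ≠ 1} → Uc z := fun p =>
      ⟨p.1.out * p.2.1 * p.1.out⁻¹, p.1.out, p.2.1, fun h => p.2.2 (Subtype.ext h), hA.mp p.2.1.2, rfl⟩
    have hf : Function.Bijective f := by
      constructor
      · rintro ⟨p, v, hv⟩ ⟨p', v', hv'⟩ h
        have h' : p.out * (v : W) * p.out⁻¹ = p'.out * (v' : W) * p'.out⁻¹ := congrArg Subtype.val h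
        have hv1 : (v : W) ≠ 1 := fun e => hv (Subtype.ext e)
        set g := p'.out⁻¹ * p.out with hg
        have e : g * (v : W) * g⁻¹ = v' := by
          calc g * (v : W) * g⁻¹ = p'.out⁻¹ * (p.out * (v : W) * p.out⁻¹) * p'.out := by
                rw [hg]; group
            _ = v' := by rw [h']; group
        have hgv : Commute g v := hn v hv1 g (by
          rw [e]
          exact hc z hz _ _ (hA.mp v'.2) (hA.mp v.2))
        have hgA : g ∈ A z := hA.mpr ((hconj hz hv1 (hA.mp v.2)).mp hgv)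
        have hp : p' = p := by
          rw [← QuotientGroup.out_eq' p', ← QuotientGroup.out_eq' p]
          exact QuotientGroup.eq.mpr hgA
        subst hp
        refine Prod.ext rfl (Subtype.ext (Subtype.ext ?_))
        exact mul_left_cancel (mul_right_cancel h')
      · rintro ⟨w, g, v, hv, hvz, rfl⟩
        obtain ⟨⟨c, hcA⟩, hout⟩ := QuotientGroup.mk_out_eq_mul (A z) g
        refine ⟨⟨(g : W ⧸ A z), ⟨c⁻¹ * v * c, ?_⟩, ?_⟩, Subtype.ext ?_⟩
        · exact mul_mem (mul_mem (inv_mem hcA) (hA.mpr hvz)) hcA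
        · intro e
          have e' : c⁻¹ * v * c = 1 := congrArg Subtype.val e
          refine hv ?_
          calc v = c * (c⁻¹ * v * c) * c⁻¹ := by group
            _ = 1 := by rw [e']; group
        · change (g : W ⧸ A z).out * (c⁻¹ * v * c) * (g : W ⧸ A z).out⁻¹ = g * v * g⁻¹
          rw [hout]
          group
    have hne : Nat.card {v : A z // v ≠ 1} = Nat.card (A z) - 1 := by
      haveI := Fintype.ofFinite (A z)
      rw [Nat.card_eq_fintype_card, Nat.card_eq_fintype_card, Fintype.card_subtype_compl,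
        Fintype.card_subtype_eq]
    rw [← Nat.card_eq_of_bijective f hf, Nat.card_prod, hne]
    rfl
  -- each orbit of centralisers covers at least half of the group
  have hhalf : ∀ z : W, z ≠ 1 → Nat.card W ≤ 2 * Nat.card (Uc z) := by
    intro z hz
    have h2 : 2 ≤ Nat.card (A z) := Finite.one_lt_card_iff_nontrivial.mpr
      ⟨⟨⟨z, hA.mpr (Commute.refl z)⟩, 1, fun e => hz (congrArg Subtype.val e)⟩⟩
    rw [hcardU z hz, ← Subgroup.index_mul_card (A z)]
    calc (A z).index * Nat.card (A z) ≤ (A z).index * (2 * (Nat.card (A z) - 1)) :=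
          Nat.mul_le_mul_left _ (by omega)
      _ = 2 * ((A z).index * (Nat.card (A z) - 1)) := by ring
  have hAx : A x ≠ ⊤ := fun h => hxy (hA.mp (h ▸ Subgroup.mem_top y)).symm
  have hlt : Nat.card (Uc x) < Nat.card W - 1 := by
    have hi : 2 ≤ (A x).index := by
      rcases Nat.eq_zero_or_pos (A x).index with h | h
      · exact absurd h Subgroup.index_ne_zero_of_finite
      · exact Nat.lt_of_le_of_ne h fun e => hAx (Subgroup.index_eq_one.mp e.symm)
    have hm := Subgroup.index_mul_card (A x)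
    have hpos : 1 ≤ Nat.card (A x) := Nat.card_pos
    rw [hcardU x hx1, ← hm]
    obtain ⟨m, hm'⟩ := Nat.exists_eq_add_of_le hpos
    rw [hm', Nat.add_sub_cancel_left, mul_add, mul_one]
    omega
  obtain ⟨b, hb1, hbU⟩ : ∃ b : W, b ≠ 1 ∧ b ∉ Uc x := by
    by_contra h
    push Not at h
    have : Nat.card {w : W // w ≠ 1} ≤ Nat.card (Uc x) :=
      Nat.card_le_card_of_injective (fun w => ⟨w.1, h w.1 w.2⟩)
        fun _ _ e => Subtype.ext (Subtype.mk.inj e)
    haveI := Fintype.ofFinite W
    have hW1 : Nat.card {w : W // w ≠ 1} = Nat.card W - 1 := by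
      rw [Nat.card_eq_fintype_card, Nat.card_eq_fintype_card, Fintype.card_subtype_compl,
        Fintype.card_subtype_eq]
    omega
  have hdisj : Disjoint (Uc x) (Uc b) := by
    refine Set.disjoint_left.mpr ?_
    rintro w ⟨g, v, hv, hvx, rfl⟩ ⟨g', v', hv', hv'b, e⟩
    refine hbU ⟨g'⁻¹ * g, (g'⁻¹ * g)⁻¹ * b * (g'⁻¹ * g), ?_, ?_, by group⟩
    · intro h
      refine hb1 ?_
      calc b = (g'⁻¹ * g) * ((g'⁻¹ * g)⁻¹ * b * (g'⁻¹ * g)) * (g'⁻¹ * g)⁻¹ := by group
        _ = 1 := by rw [h]; group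
    · refine (hconj hx1 hv hvx).mp ?_
      have e' : (g'⁻¹ * g) * v * (g'⁻¹ * g)⁻¹ = v' := by
        calc (g'⁻¹ * g) * v * (g'⁻¹ * g)⁻¹ = g'⁻¹ * (g * v * g⁻¹) * g' := by group
          _ = v' := by rw [e]; group
      have hbv := hv'b.symm
      rw [← e'] at hbv
      change _ * _ = _ * _
      calc (g'⁻¹ * g)⁻¹ * b * (g'⁻¹ * g) * v
          = (g'⁻¹ * g)⁻¹ * (b * ((g'⁻¹ * g) * v * (g'⁻¹ * g)⁻¹)) * (g'⁻¹ * g) := by group
        _ = _ := by rw [hbv.eq]; group
  have h1 : ∀ z : W, (1 : W) ∉ Uc z := by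
    rintro z ⟨g, v, hv, -, e⟩
    refine hv ?_
    calc v = g⁻¹ * (g * v * g⁻¹) * g := by group
      _ = 1 := by rw [← e]; group
  have hsum : Nat.card (Uc x) + Nat.card (Uc b) < Nat.card W := by
    rw [Nat.card_coe_set_eq, Nat.card_coe_set_eq,
      ← Set.ncard_union_eq hdisj (Set.toFinite _) (Set.toFinite _), ← Set.ncard_univ]
    refine Set.ncard_lt_ncard ?_ (Set.toFinite _)
    rw [Set.ssubset_univ_iff]
    intro h
    exact (h ▸ Set.mem_univ (1 : W) : (1 : W) ∈ Uc x ∪ Uc b).elim (h1 x) (h1 b)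
  have := hhalf x hx1
  have := hhalf b hb1
  omega

end Commutative

end CfsgLib.RankOne.SimpleField
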