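import Mathlib
import Cfsg.Agent.Lib.RankOne.Split.SimpleField

/-!
# Field coordinates on `P/Z(P)` for a Suzuki 2-group of order `|Z(P)|³`

`C` is the group transitive on the involutions, `ker₀` the group of operators commuting with `C` and
fixing the centre; a nontrivial element of `ker₀` has no fixed point on `P/Z(P)` and together with
`C` generates a field of order `|Z(P)|²`.
-/

set_option autoImplicit false
set_option linter.style.haveILetI false

namespace CfsgLib.RankOne.Cube

open Subgroup

universe u v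

variable {P : Type u} [Group P] [Finite P] {D : Type v} [Group D] [Finite D]
  {C : Subgroup D} {ψ : D →* MulAut P}

/-- The hypotheses on the action. -/
structure Hyp (C : Subgroup D) (ψ : D →* MulAut P) : Prop where
  inj : Function.Injective ψ
  odd : Odd (Nat.card D)
  sq : ∀ x : P, x * x ∈ center P
  central_two : ∀ z ∈ center P, z * z = 1
  invol : ∀ x : P, x * x = 1 → x ∈ center P
  card : Nat.card P = Nat.card (center P) ^ 3
  one_lt : 2 < Nat.card (center P)
  comm : ∀ c ∈ C, ∀ c' ∈ C, c * c' = c' * c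
  norm : ∀ d : D, ∀ c ∈ C, d * c * d⁻¹ ∈ C
  trans : ∀ z ∈ center P, ∀ z' ∈ center P, z ≠ 1 → z' ≠ 1 → ∃ c ∈ C, ψ c z = z'
  free : ∀ c ∈ C, c ≠ 1 → ∀ x, ψ c x = x → x = 1

theorem center_image (φ : MulAut P) {z : P} (hz : z ∈ center P) : φ z ∈ center P :=
  mem_center_iff.mpr fun g => by
    obtain ⟨y, rfl⟩ := φ.surjective g
    rw [← map_mul, ← map_mul, mem_center_iff.mp hz y]

/-- The operators fixing the centre pointwise and commuting with `C`. -/
def ker₀ (C : Subgroup D) (ψ : D →* MulAut P) : Subgroup D where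
  carrier := {d | (∀ z ∈ center P, ψ d z = z) ∧ ∀ c ∈ C, d * c = c * d}
  one_mem' := ⟨fun z _ => by simp, fun c _ => by simp⟩
  mul_mem' {d e} hd he := ⟨fun z hz => by rw [map_mul, MulAut.mul_apply, he.1 z hz, hd.1 z hz],
    fun c hc => (Commute.mul_left (hd.2 c hc) (he.2 c hc)).eq⟩
  inv_mem' {d} hd := ⟨fun z hz => by
      conv_lhs => rw [← hd.1 z hz]
      rw [map_inv, MulAut.inv_apply_self],
    fun c hc => (Commute.inv_left (hd.2 c hc)).eq⟩

variable (h : Hyp C ψ)
include h

theorem conj_ker₀ (d : D) {w : D} (hw : w ∈ ker₀ C ψ) : d * w * d⁻¹ ∈ ker₀ C ψ := by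
  refine ⟨fun z hz => ?_, fun c hc => ?_⟩
  · rw [map_mul, map_mul, MulAut.mul_apply, MulAut.mul_apply, hw.1 _ (center_image _ hz), map_inv,
      MulAut.apply_inv_self]
  · have hc' : d⁻¹ * c * d ∈ C := by simpa using h.norm d⁻¹ c hc
    calc d * w * d⁻¹ * c = d * (w * (d⁻¹ * c * d)) * d⁻¹ := by group
      _ = d * (d⁻¹ * c * d * w) * d⁻¹ := by rw [hw.2 _ hc']
      _ = c * (d * w * d⁻¹) := by group

theorem exists_noncentral : ∃ x : P, x ∉ center P := by
  by_contra hh
  push Not at hh
  have he : Nat.card (center P) = Nat.card P := by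
    rw [(eq_top_iff' _).mpr hh, Subgroup.card_top]
  have h1 := h.card
  have h2 := h.one_lt
  have : Nat.card (center P) ^ 1 = Nat.card (center P) ^ 3 := by rw [pow_one, ← h1, he]
  exact absurd (Nat.pow_right_injective (by omega) this) (by omega)

theorem exists_sqrt {z : P} (hz : z ∈ center P) : ∃ x, x * x = z := by
  by_cases h1 : z = 1
  · exact ⟨1, by rw [h1, mul_one]⟩
  obtain ⟨x, hx⟩ := exists_noncentral h
  obtain ⟨c, -, hc⟩ := h.trans (x * x) (h.sq x) z hz (fun e => hx (h.invol x e)) h1
  exact ⟨ψ c x, by rw [← map_mul, hc]⟩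

/-- Translating by a fixed central element has order dividing two. -/
theorem fixed_of_translate {d : D} {x y : P} (hy : y ∈ center P) (hd : ψ d y = y)
    (hx : ψ d x = x * y) : ψ d x = x := by
  have hk : ∀ m : ℕ, ψ (d ^ m) x = x * y ^ m ∧ ψ (d ^ m) y = y := by
    intro m
    induction m with
    | zero => simp
    | succ m ih =>
      rw [pow_succ' d, map_mul, MulAut.mul_apply, MulAut.mul_apply, ih.2, hd, ih.1, map_mul,
        map_pow, hd, hx, mul_assoc, ← pow_succ']
      exact ⟨rfl, rfl⟩
  obtain ⟨m, hm⟩ := h.odd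
  have h1 := (hk (Nat.card D)).1
  rw [pow_card_eq_one', map_one, MulAut.one_apply, hm, pow_succ, pow_mul, pow_two,
    h.central_two y hy, one_pow, one_mul] at h1
  rw [hx]
  exact h1.symm

theorem eq_one_of_quot {d : D} (hd : ∀ x, x⁻¹ * ψ d x ∈ center P) : d = 1 := by
  have hz : ∀ z ∈ center P, ψ d z = z := fun z hz => by
    obtain ⟨x, rfl⟩ := exists_sqrt h hz
    set y := x⁻¹ * ψ d x with hy
    have hy' : ψ d x = x * y := by rw [hy]; group
    rw [map_mul, hy']
    change x * y * (x * y) = x * x
    calc x * y * (x * y) = x * (y * x) * y := by group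
      _ = x * x * (y * y) := by rw [← mem_center_iff.mp (show y ∈ center P from hd x) x]; group
      _ = x * x := by rw [h.central_two y (hd x), mul_one]
  refine h.inj (MulEquiv.ext fun x => ?_)
  rw [map_one, MulAut.one_apply]
  exact fixed_of_translate h (hd x) (hz _ (hd x)) (by group)

theorem comm_mem (a b : P) : a⁻¹ * b⁻¹ * a * b ∈ center P := by
  have : a⁻¹ * b⁻¹ * a * b = (a⁻¹ * a⁻¹) * ((a * b⁻¹) * (a * b⁻¹)) * (b * b) := by group
  rw [this]
  exact mul_mem (mul_mem (h.sq _) (h.sq _)) (h.sq _)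

/-- A nontrivial element of `ker₀` fixes no nontrivial coset of the centre. -/
theorem fpf {w : D} (hw : w ∈ ker₀ C ψ) (hw1 : w ≠ 1) {a : P} (ha : a⁻¹ * ψ w a ∈ center P) :
    a ∈ center P := by
  by_contra haz
  have hwa : ψ w a = a := fixed_of_translate h ha (hw.1 _ ha) (by group)
  obtain ⟨b, hb⟩ : ∃ b, b⁻¹ * ψ w b ∉ center P := by
    by_contra hh
    push Not at hh
    exact hw1 (eq_one_of_quot h hh)
  set β := b⁻¹ * ψ w b with hβ
  have hβ2 : β * β ≠ 1 := fun e => hb (h.invol β e)
  obtain ⟨c, hc, hca⟩ := h.trans (a * a) (h.sq a) (β * β) (h.sq β) (fun e => haz (h.invol a e)) hβ2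
  set a' := ψ c a with ha'
  have hwa' : ψ w a' = a' := by
    rw [ha', ← MulAut.mul_apply, ← map_mul, hw.2 c hc, map_mul, MulAut.mul_apply, hwa]
  have ha2 : a' * a' = β * β := by rw [ha', ← map_mul, hca]
  -- `a'` commutes with `β`
  have hcomm : a' * β = β * a' := by
    set z := a'⁻¹ * b⁻¹ * a' * b with hz
    have hzc : z ∈ center P := comm_mem h a' b
    have h1 : ψ w z = z := hw.1 z hzc
    rw [hz, map_mul, map_mul, map_mul, map_inv, map_inv, hwa', ← hz] at h1
    have hwb : ψ w b = b * β := by rw [hβ]; group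
    rw [hwb] at h1
    have h2 : β⁻¹ * b⁻¹ * a' * (b * β) = a' * z := by
      calc β⁻¹ * b⁻¹ * a' * (b * β) = a' * (a'⁻¹ * (b * β)⁻¹ * a' * (b * β)) := by group
        _ = a' * z := by rw [h1]
    have h3 : b⁻¹ * a' * b = a' * z := by rw [hz]; group
    have h4 : β⁻¹ * (a' * z) * β = a' * z :=
      calc β⁻¹ * (a' * z) * β = β⁻¹ * b⁻¹ * a' * (b * β) := by rw [← h3]; group
        _ = a' * z := h2
    have h5 : a' * z * β = a' * β * z := by rw [mul_assoc, ← mem_center_iff.mp hzc β, ← mul_assoc]
    calc a' * β = a' * z * β * z⁻¹ := by rw [h5]; group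
      _ = β * (β⁻¹ * (a' * z) * β) * z⁻¹ := by group
      _ = β * a' := by rw [h4]; group
  have hs : (a' * β) * (a' * β) = 1 := by
    calc a' * β * (a' * β) = a' * (β * a') * β := by group
      _ = (a' * a') * (β * β) := by rw [← hcomm]; group
      _ = 1 := by rw [ha2, h.central_two _ (h.sq β)]
  have hab : a' * β ∈ center P := h.invol _ hs
  -- so `w` translates `b` by an element fixed modulo the centre
  have hwβ : ψ w β = β := by
    have := hw.1 _ hab
    rw [map_mul, hwa'] at this
    exact mul_left_cancel this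
  have hk : ∀ m : ℕ, ψ (w ^ m) b = b * β ^ m := by
    intro m
    induction m with
    | zero => simp
    | succ m ih =>
      rw [pow_succ' w, map_mul, MulAut.mul_apply, ih, map_mul, map_pow, hwβ, pow_succ' β,
        show ψ w b = b * β by rw [hβ]; group, mul_assoc]
  have hm := hk (Nat.card D)
  rw [pow_card_eq_one', map_one, MulAut.one_apply] at hm
  obtain ⟨m, hm'⟩ := h.odd
  have hβm : β ^ (2 * m + 1) = 1 := by rw [← hm']; exact mul_eq_left.mp hm.symm
  rw [pow_succ, pow_mul, pow_two] at hβm
  exact hb (by rw [eq_inv_of_mul_eq_one_right hβm]; exact inv_mem (pow_mem (h.sq β) m))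

theorem card_C : Nat.card C + 1 = Nat.card (center P) := by
  classical
  obtain ⟨x, hx⟩ := exists_noncentral h
  have hz1 : x * x ≠ 1 := fun e => hx (h.invol x e)
  let f : C → {z : center P // z ≠ 1} := fun c =>
    ⟨⟨ψ c (x * x), center_image _ (h.sq x)⟩, fun e => hz1 ((ψ (c : D)).injective
      ((congrArg Subtype.val e).trans (map_one _).symm))⟩
  have hf : Function.Bijective f := by
    constructor
    · intro c c' e
      have e' : ψ (c : D) (x * x) = ψ (c' : D) (x * x) := congrArg (fun z => (z.1 : P)) e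
      by_contra hne
      refine hz1 (h.free ((c' : D)⁻¹ * c) (mul_mem (inv_mem c'.2) c.2)
        (fun e1 => hne (Subtype.ext (inv_mul_eq_one.mp e1).symm)) (x * x) ?_)
      rw [map_mul ψ, MulAut.mul_apply, e', map_inv ψ, MulAut.inv_apply_self]
    · rintro ⟨⟨z, hz⟩, hz'⟩
      obtain ⟨c, hc, hcz⟩ := h.trans _ (h.sq x) z hz hz1 fun e => hz' (Subtype.ext e)
      exact ⟨⟨c, hc⟩, Subtype.ext (Subtype.ext hcz)⟩
  haveI := Fintype.ofFinite (center P)
  rw [Nat.card_eq_of_bijective f hf, Nat.card_eq_fintype_card, Nat.card_eq_fintype_card,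
    Fintype.card_subtype_compl, Fintype.card_subtype_eq]
  have : 0 < Fintype.card (center P) := Fintype.card_pos
  omega

/-- Only the whole quotient is invariant under `C` and a nontrivial element of `ker₀`. -/
theorem irreducible {w : D} (hw : w ∈ ker₀ C ψ) (hw1 : w ≠ 1) (U : Subgroup P)
    (hle : center P ≤ U) (hne : U ≠ center P) (hC : ∀ c ∈ C, ∀ u ∈ U, ψ c u ∈ U)
    (hwU : ∀ u ∈ U, ψ w u ∈ U) : U = ⊤ := by
  classical
  by_contra htop
  set q := Nat.card (center P) with hq
  have hq1 := h.one_lt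
  haveI hn : ((center P).subgroupOf U).Normal := inferInstance
  let R := U ⧸ (center P).subgroupOf U
  have hcR : Nat.card R * q = Nat.card U := by
    rw [hq, ← Nat.card_congr (Subgroup.subgroupOfEquivOfLe hle).toEquiv]
    exact (Subgroup.card_eq_card_quotient_mul_card_subgroup _).symm
  let act : C → R → R := fun c => Quotient.map'
    (fun u : U => (⟨ψ c u, hC c c.2 u u.2⟩ : U)) fun u u' e => by
      rw [QuotientGroup.leftRel_apply, Subgroup.mem_subgroupOf] at e ⊢
      simpa using center_image (ψ (c : D)) e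
  have hact : ∀ (c : C) (u : U), act c (u : R) = ((⟨ψ c u, hC c c.2 u u.2⟩ : U) : R) :=
    fun c u => rfl
  letI : MulAction C R :=
    { smul := act
      one_smul := fun r => by
        obtain ⟨u, rfl⟩ := QuotientGroup.mk_surjective r
        change act 1 _ = _
        rw [hact]
        congr 1
        exact Subtype.ext (by simp)
      mul_smul := fun c c' r => by
        obtain ⟨u, rfl⟩ := QuotientGroup.mk_surjective r
        change act (c * c') _ = act c (act c' _)
        rw [hact, hact, hact]
        congr 1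
        exact Subtype.ext (by simp) }
  have hmk1 : ∀ u : U, (u : R) = 1 ↔ (u : P) ∈ center P := fun u => by
    rw [QuotientGroup.eq_one_iff, Subgroup.mem_subgroupOf]
  -- semiregular off the identity
  have hfree : ∀ (c : C) (r : R), c • r = r → r ≠ 1 → c = 1 := by
    intro c r e hr
    obtain ⟨u, rfl⟩ := QuotientGroup.mk_surjective r
    have hu : (u : P) ∉ center P := fun e' => hr ((hmk1 u).mpr e')
    have e' := QuotientGroup.eq.mp e.symm
    rw [Subgroup.mem_subgroupOf] at e'
    by_contra hc
    have hsq : ψ (c : D) ((u : P) * u) = u * u := by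
      set y := (u : P)⁻¹ * ψ (c : D) u with hy
      have hyc : y ∈ center P := by simpa [hy] using e'
      rw [map_mul, show ψ (c : D) u = u * y by rw [hy]; group]
      calc (u : P) * y * (u * y) = u * (y * u) * y := by group
        _ = u * u * (y * y) := by rw [← mem_center_iff.mp hyc u]; group
        _ = u * u := by rw [h.central_two y hyc, mul_one]
    exact hu (h.invol _ (h.free c c.2 (fun e1 => hc (Subtype.ext e1)) _ hsq))
  let X := {r : R // r ≠ 1}
  have hstab : ∀ (c : C) (r : R), r ≠ 1 → c • r ≠ 1 := fun c r hr e => hr (by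
    obtain ⟨u, rfl⟩ := QuotientGroup.mk_surjective r
    refine (hmk1 u).mpr ?_
    have := (hmk1 _).mp e
    simpa using center_image (ψ (c : D)⁻¹) this)
  letI : MulAction C X :=
    { smul := fun c r => ⟨c • r.1, hstab c r.1 r.2⟩
      one_smul := fun r => Subtype.ext (one_smul C r.1)
      mul_smul := fun c c' r => Subtype.ext (mul_smul c c' r.1) }
  have hX : Nat.card C ∣ Nat.card X := by
    rw [Nat.card_congr (MulAction.selfEquivOrbitsQuotientProd (fun r : X => (?_ : MulAction.stabilizer C r = ⊥))),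
      Nat.card_prod]
    · exact dvd_mul_left _ _
    · exact (Subgroup.eq_bot_iff_forall _).mpr fun c hc =>
        hfree c r.1 (congrArg Subtype.val hc) r.2
  haveI := Fintype.ofFinite R
  have hcX : Nat.card X + 1 = Nat.card R := by
    rw [Nat.card_eq_fintype_card, Nat.card_eq_fintype_card, Fintype.card_subtype_compl,
      Fintype.card_subtype_eq]
    have : 0 < Fintype.card R := Fintype.card_pos
    omega
  -- the order of the quotient is `q`
  have hP : IsPGroup 2 P := fun x => ⟨2, by
    rw [show (2 : ℕ) ^ 2 = 2 * 2 by norm_num, pow_mul, pow_two, pow_two, h.central_two _ (h.sq x)]⟩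
  obtain ⟨n, hn2⟩ := (hP.to_subgroup (center P)).exists_card_eq
  obtain ⟨j, hj⟩ := (hP.to_subgroup U).exists_card_eq
  have hU3 : Nat.card U < q ^ 3 := by
    rw [hq, ← h.card]
    exact lt_of_le_of_ne (Nat.le_of_dvd Nat.card_pos (Subgroup.card_subgroup_dvd_card U))
      fun e => htop ((Subgroup.card_eq_iff_eq_top _).mp e)
  have hR2 : Nat.card R < q ^ 2 := by
    by_contra hh
    push Not at hh
    have : q ^ 3 ≤ Nat.card U := by rw [← hcR, pow_succ]; exact Nat.mul_le_mul_right _ hh
    omega
  obtain ⟨m, hm⟩ : ∃ m, Nat.card R = 2 ^ m := by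
    obtain ⟨m, -, hm⟩ := (Nat.dvd_prime_pow Nat.prime_two).mp (hj ▸ Dvd.intro q hcR)
    exact ⟨m, hm⟩
  have hR1 : 1 < Nat.card R := by
    by_contra hh
    have : Nat.card R = 1 := by have : 0 < Nat.card R := Nat.card_pos; omega
    rw [this, one_mul] at hcR
    exact hne (Subgroup.eq_of_le_of_card_ge hle (by rw [← hcR])).symm
  have hRq : Nat.card R = q := by
    have hq2 : q = 2 ^ n := hn2
    have hC1 : Nat.card C = q - 1 := by have := card_C h; omega
    have hdvd : q - 1 ∣ 2 ^ m - 1 := by
      rw [← hC1, ← hm, ← hcX, Nat.add_sub_cancel]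
      exact hX
    have hnm : n ∣ m := by
      have hg := Nat.pow_sub_one_gcd_pow_sub_one 2 n m
      rw [← hq2, Nat.gcd_eq_left hdvd, hq2] at hg
      have hinj : n = Nat.gcd n m := by
        refine Nat.pow_right_injective (le_refl 2) (Nat.eq_of_le_of_lt_succ ?_ ?_)
        · have := Nat.one_le_two_pow (n := n); have := Nat.one_le_two_pow (n := Nat.gcd n m)
          simp only; omega
        · have := Nat.one_le_two_pow (n := n); have := Nat.one_le_two_pow (n := Nat.gcd n m)
          simp only; omega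
      exact hinj ▸ Nat.gcd_dvd_right n m
    obtain ⟨i, rfl⟩ := hnm
    rw [hm, hq2, ← pow_mul] at hR2
    have hi2 : n * i < n * 2 := (Nat.pow_lt_pow_iff_right (by norm_num)).mp hR2
    have hi : i = 1 := by
      rcases i with _ | _ | i
      · rw [hm] at hR1; simp at hR1
      · rfl
      · nlinarith
    rw [hm, hq2, hi, mul_one]
  -- so `C` is transitive off the identity and `w` fixes a coset
  obtain ⟨u, huU, hu⟩ := SetLike.exists_of_lt (lt_of_le_of_ne hle hne.symm)
  have hu0 : ((⟨u, huU⟩ : U) : R) ≠ 1 := fun e => hu ((hmk1 _).mp e)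
  let r0 : X := ⟨_, hu0⟩
  have hbij : Function.Bijective fun c : C => c • r0 := by
    rw [Nat.bijective_iff_injective_and_card]
    refine ⟨fun c c' e => ?_, by have := card_C h; omega⟩
    have : (c'⁻¹ * c) • r0 = r0 := by rw [mul_smul, show c • r0 = c' • r0 from e]; exact inv_smul_smul c' r0
    exact (inv_mul_eq_one.mp (hfree _ _ (congrArg Subtype.val this) hu0)).symm
  have hwu : ψ w u ∉ center P := fun e => hu (by simpa using center_image (ψ w⁻¹) e)
  obtain ⟨c, hc⟩ := hbij.2 ⟨((⟨ψ w u, hwU u huU⟩ : U) : R), fun e => hwu ((hmk1 _).mp e)⟩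
  have e : (ψ (c : D) u)⁻¹ * ψ w u ∈ center P := by
    have := QuotientGroup.eq.mp (congrArg Subtype.val hc)
    rw [Subgroup.mem_subgroupOf] at this
    simpa using this
  set y := (ψ (c : D) u)⁻¹ * ψ w u with hy
  have hsq : ψ (c : D) (u * u) = u * u := by
    have h1 : ψ w (u * u) = ψ (c : D) (u * u) := by
      rw [map_mul, show ψ w u = ψ (c : D) u * y by rw [hy]; group]
      calc ψ (c : D) u * y * (ψ (c : D) u * y) = ψ (c : D) u * (y * ψ (c : D) u) * y := by group
        _ = ψ (c : D) u * ψ (c : D) u * (y * y) := by rw [← mem_center_iff.mp e _]; group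
        _ = ψ (c : D) (u * u) := by rw [h.central_two y e, mul_one, map_mul]
    rw [← h1, hw.1 _ (h.sq u)]
  have hc1 : (c : D) = 1 := by
    by_contra hc1
    exact hu (h.invol u (h.free c c.2 hc1 _ hsq))
  refine hu (fpf h hw hw1 ?_)
  rw [hy, hc1, map_one, MulAut.one_apply] at e
  exact e

end CfsgLib.RankOne.Cube
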