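import Mathlib
import Cfsg.Agent.Lib.RankOne.Split.Cube

/-!
# The field of order `|Z(P)|²` on `P/Z(P)`

`C` acts as the multiplicative group of the subfield, a nontrivial element `w` of `ker₀` as an element
of norm one, and every operator conjugating `w` to an element commuting with it is semilinear.
-/

set_option autoImplicit false
set_option linter.style.haveILetI false

namespace CfsgLib.RankOne.Cube

open Subgroup

universe u v

variable {P : Type u} [Group P] [Finite P] {D : Type v} [Group D] [Finite D]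
  {C : Subgroup D} {ψ : D →* MulAut P}

/-- The action on `P/Z(P)`, written additively. -/
def quotAct (ψ : D →* MulAut P) : D →* AddMonoid.End (Additive (P ⧸ center P)) where
  toFun d := MonoidHom.toAdditive
    (QuotientGroup.map (center P) (center P) (ψ d).toMonoidHom fun _ hz => center_image _ hz)
  map_one' := DFunLike.ext _ _ fun v => by
    obtain ⟨x, hx⟩ := QuotientGroup.mk_surjective (Additive.toMul v)
    rw [show v = Additive.ofMul (x : P ⧸ center P) from hx ▸ rfl]
    change Additive.ofMul ((ψ 1 x : P) : P ⧸ center P) = _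
    rw [map_one]
    rfl
  map_mul' d e := DFunLike.ext _ _ fun v => by
    obtain ⟨x, hx⟩ := QuotientGroup.mk_surjective (Additive.toMul v)
    rw [show v = Additive.ofMul (x : P ⧸ center P) from hx ▸ rfl]
    change Additive.ofMul ((ψ (d * e) x : P) : P ⧸ center P) = _
    rw [map_mul]
    rfl

variable (h : Hyp C ψ)
include h

theorem field_of {w : D} (hw : w ∈ ker₀ C ψ) (hw1 : w ≠ 1) :
    ∃ (F : Type u) (_ : Field F) (_ : Fintype F) (_ : CharP F 2) (π : P → F),
      Fintype.card F = Nat.card (center P) ^ 2 ∧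
      (∀ x y, π (x * y) = π x + π y) ∧ Function.Surjective π ∧ (∀ x, π x = 0 ↔ x ∈ center P) ∧
      (∀ c ∈ C, ∃ s : F, s ^ (Nat.card (center P) - 1) = 1 ∧ ∀ x, π (ψ c x) = s * π x) ∧
      (∀ s : F, s ^ (Nat.card (center P) - 1) = 1 → ∃ c ∈ C, ∀ x, π (ψ c x) = s * π x) ∧
      (∃ ε : F, ε ≠ 1 ∧ ε ^ (Nat.card (center P) + 1) = 1 ∧ ∀ x, π (ψ w x) = ε * π x) ∧
      (∀ d : D, (∀ c ∈ C, d * c = c * d) → d * w = w * d → ∃ s : F, ∀ x, π (ψ d x) = s * π x) ∧
      (∀ d : D, d * w * d⁻¹ * w = w * (d * w * d⁻¹) →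
        ∃ (u : F) (τ : F ≃+* F), u ≠ 0 ∧ Odd (orderOf τ) ∧ ∀ x, π (ψ d x) = u * τ (π x)) := by
  classical
  set q := Nat.card (center P) with hq
  let Qt := P ⧸ center P
  have hsq1 : ∀ a : Qt, a * a = 1 := fun a => by
    obtain ⟨x, rfl⟩ := QuotientGroup.mk_surjective a
    rw [← QuotientGroup.mk_mul, QuotientGroup.eq_one_iff]
    exact h.sq x
  letI : CommGroup Qt :=
    { (inferInstance : Group Qt) with
      mul_comm := fun a b => by
        have hi : ∀ c : Qt, c⁻¹ = c := fun c => inv_eq_of_mul_eq_one_right (hsq1 c)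
        calc a * b = (a * b)⁻¹ := (hi _).symm
          _ = b * a := by rw [mul_inv_rev, hi, hi] }
  let V := Additive Qt
  let mk : P → V := fun x => Additive.ofMul (x : Qt)
  have hmk : ∀ v : V, ∃ x, mk x = v := fun v => by
    obtain ⟨x, hx⟩ := QuotientGroup.mk_surjective (Additive.toMul v)
    exact ⟨x, congrArg Additive.ofMul hx⟩
  have hmk0 : ∀ x, mk x = 0 ↔ x ∈ center P := fun x => QuotientGroup.eq_one_iff x
  have hmkmul : ∀ x y, mk (x * y) = mk x + mk y := fun x y => rfl
  -- the abelian group generated by `C` and `w`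
  let S : Set D := (C : Set D) ∪ {w}
  have hS : ∀ a ∈ S, ∀ b ∈ S, a * b = b * a := by
    rintro a (ha | rfl) b (hb | rfl)
    · exact h.comm a ha b hb
    · exact (hw.2 a ha).symm
    · exact hw.2 b hb
    · rfl
  let A := Subgroup.closure S
  letI : CommGroup A := Subgroup.closureCommGroupOfComm hS
  let act : A →* AddMonoid.End V := (quotAct ψ).comp A.subtype
  obtain ⟨x0, hx0⟩ := exists_noncentral h
  have hsimple : ∀ U : AddSubgroup V, U ≠ ⊥ → (∀ a, ∀ v ∈ U, act a v ∈ U) → U = ⊤ := by
    intro U hU hinv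
    let U' : Subgroup P :=
      { carrier := {x | mk x ∈ U}
        one_mem' := U.zero_mem
        mul_mem' := fun {x y} hx hy => U.add_mem hx hy
        inv_mem' := fun {x} hx => U.neg_mem hx }
    have hmem : ∀ x, x ∈ U' ↔ mk x ∈ U := fun x => Iff.rfl
    have htop := irreducible h hw hw1 U' (fun z hz => by
        rw [hmem, (hmk0 z).mpr hz]; exact U.zero_mem) ?_
      (fun c hc x hx => hinv ⟨c, Subgroup.subset_closure (Or.inl hc)⟩ _ hx)
      (fun x hx => hinv ⟨w, Subgroup.subset_closure (Or.inr rfl)⟩ _ hx)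
    · refine eq_top_iff.mpr fun v _ => ?_
      obtain ⟨x, rfl⟩ := hmk v
      exact (hmem x).mp (htop ▸ Subgroup.mem_top x)
    · intro e
      refine hU ((AddSubgroup.eq_bot_iff_forall _).mpr fun v hv => ?_)
      obtain ⟨x, rfl⟩ := hmk v
      exact (hmk0 x).mpr (e ▸ (hmem x).mpr hv)
  obtain ⟨F, iF, iFt, iC, e, -, hsc, hcent⟩ := SimpleField.exists_field_of_simple (V := V)
    (fun v => hsq1 (Additive.toMul v)) act (mk x0) (fun e => hx0 ((hmk0 x0).mp e)) hsimple
  let π : P → F := fun x => e.symm (mk x)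
  have hπmul : ∀ x y, π (x * y) = π x + π y := fun x y => by
    change e.symm (mk (x * y)) = _
    rw [hmkmul, map_add]
  have hπs : Function.Surjective π := fun s => by
    obtain ⟨x, hx⟩ := hmk (e s)
    exact ⟨x, by change e.symm (mk x) = s; rw [hx, e.symm_apply_apply]⟩
  have hπ0 : ∀ x, π x = 0 ↔ x ∈ center P := fun x => by
    rw [← hmk0]
    exact e.symm.map_eq_zero_iff
  -- the action transported to the field
  let δ : D → F → F := fun d s => e.symm (quotAct ψ d (e s))
  have hδ : ∀ d x, π (ψ d x) = δ d (π x) := fun d x => by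
    change _ = e.symm (quotAct ψ d (e (e.symm (mk x))))
    rw [e.apply_symm_apply]
    rfl
  have hδmul : ∀ d d' s, δ (d * d') s = δ d (δ d' s) := fun d d' s => by
    change e.symm (quotAct ψ (d * d') (e s)) = e.symm (quotAct ψ d (e (e.symm _)))
    rw [e.apply_symm_apply, map_mul]
    rfl
  have hδ1 : ∀ s, δ 1 s = s := fun s => by
    obtain ⟨x, rfl⟩ := hπs s
    rw [← hδ, map_one, MulAut.one_apply]
  have hδadd : ∀ d s s', δ d (s + s') = δ d s + δ d s' := fun d s s' => by
    change e.symm _ = e.symm _ + e.symm _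
    rw [map_add, map_add, map_add]
  have hscal : ∀ a ∈ A, ∃ s : F, s ≠ 0 ∧ ∀ y, δ a y = s * y := fun a ha => by
    obtain ⟨s, hs0, hs⟩ := hsc ⟨a, ha⟩
    refine ⟨s, hs0, fun y => ?_⟩
    change e.symm (act ⟨a, ha⟩ (e y)) = _
    rw [hs, e.symm_apply_apply]
  have hcentF : ∀ f : F → F, (∀ y z, f (y + z) = f y + f z) →
      (∀ a ∈ A, ∀ y, f (δ a y) = δ a (f y)) → ∃ s, ∀ y, f y = s * y := by
    intro f hfadd hfc
    let g : AddMonoid.End V := AddMonoidHom.mk' (fun v => e (f (e.symm v))) fun v v' => by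
      rw [map_add, hfadd, map_add]
    obtain ⟨s, hs⟩ := hcent g fun a v => by
      change e (f (e.symm (act a v))) = act a (e (f (e.symm v)))
      have h1 := hfc a.1 a.2 (e.symm v)
      change f (e.symm (quotAct ψ (a : D) (e (e.symm v)))) = e.symm (quotAct ψ (a : D) (e _)) at h1
      rw [e.apply_symm_apply] at h1
      apply e.symm.injective
      rw [e.symm_apply_apply]
      exact h1
    refine ⟨s, fun y => e.injective ?_⟩
    have h1 := hs y
    change e (f (e.symm (e y))) = _ at h1
    rwa [e.symm_apply_apply] at h1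
  -- equal maps on the quotient come from equal operators
  have hinj : ∀ d d', (∀ x, π (ψ d x) = π (ψ d' x)) → d = d' := fun d d' hdd => by
    refine (inv_mul_eq_one.mp (eq_one_of_quot h fun x => (hπ0 _).mp ?_)).symm
    have h1 : π (ψ (d'⁻¹ * d) x) = π x := by
      rw [hδ, hδmul, ← hδ, hdd, hδ, ← hδmul, inv_mul_cancel, hδ1]
    rw [hπmul, h1, ← hπmul]
    exact (hπ0 _).mpr (by rw [inv_mul_cancel]; exact one_mem _)
  have hpow : ∀ {d : D} {s : F}, (∀ y, δ d y = s * y) → ∀ (m : ℕ) y, δ (d ^ m) y = s ^ m * y := by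
    intro d s hs m
    induction m with
    | zero => intro y; rw [pow_zero, pow_zero, one_mul, hδ1]
    | succ m ih => intro y; rw [pow_succ', hδmul, ih, hs, pow_succ', mul_assoc]
  have hcard : Fintype.card F = q ^ 2 := by
    have h1 := Subgroup.card_eq_card_quotient_mul_card_subgroup (center P)
    rw [h.card, ← hq, pow_succ] at h1
    have h2 := Nat.eq_of_mul_eq_mul_right (show 0 < q from Nat.card_pos) h1
    rw [← Nat.card_eq_fintype_card, Nat.card_congr e.toEquiv,
      ← Nat.card_congr (Additive.ofMul (α := Qt))]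
    exact h2.symm
  have hC := card_C h
  have hq1 := h.one_lt
  have hC1 : Nat.card C = q - 1 := by omega
  have hcS : ∀ c ∈ C, ∃ s : F, s ^ (q - 1) = 1 ∧ ∀ x, π (ψ c x) = s * π x := fun c hc => by
    obtain ⟨s, -, hs⟩ := hscal c (Subgroup.subset_closure (Or.inl hc))
    refine ⟨s, ?_, fun x => by rw [hδ, hs]⟩
    have h1 : (⟨c, hc⟩ : C) ^ Nat.card C = 1 := pow_card_eq_one'
    have h2 := hpow hs (q - 1) 1
    rw [← hC1, show c ^ Nat.card C = 1 from congrArg Subtype.val h1, hδ1, mul_one] at h2
    rw [← hC1]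
    exact h2.symm
  have hcS' : ∀ s : F, s ^ (q - 1) = 1 → ∃ c ∈ C, ∀ x, π (ψ c x) = s * π x := by
    choose g hg1 hg using fun c : C => hcS c c.2
    intro s hs
    by_contra hne
    push Not at hne
    haveI := Fintype.ofFinite C
    have hinjg : Function.Injective g := fun c c' e' =>
      Subtype.ext (hinj _ _ fun x => by rw [hg, hg, e'])
    have hnot : s ∉ Finset.univ.image g := fun hh => by
      obtain ⟨c, -, rfl⟩ := Finset.mem_image.mp hh
      obtain ⟨x, hx⟩ := hne c c.2
      exact hx (hg c x)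
    have hsub : insert s (Finset.univ.image g) ⊆ (Polynomial.nthRoots (q - 1) (1 : F)).toFinset := by
      intro r hr
      rw [Multiset.mem_toFinset, Polynomial.mem_nthRoots (by omega)]
      rcases Finset.mem_insert.mp hr with rfl | hr
      · exact hs
      · obtain ⟨c, -, rfl⟩ := Finset.mem_image.mp hr
        exact hg1 c
    have h1 := (Finset.card_le_card hsub).trans
      ((Multiset.toFinset_card_le _).trans (Polynomial.card_nthRoots _ _))
    rw [Finset.card_insert_of_notMem hnot, Finset.card_image_of_injective _ hinjg, Finset.card_univ,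
      ← Nat.card_eq_fintype_card, hC1] at h1
    omega
  obtain ⟨ε, hε0, hε⟩ := hscal w (Subgroup.subset_closure (Or.inr rfl))
  refine ⟨F, iF, iFt, iC, π, hcard, hπmul, hπs, hπ0, hcS, hcS',
    ⟨ε, ?_, ?_, fun x => by rw [hδ, hε]⟩, fun d hdC hdw => ?_, fun d hd => ?_⟩
  · intro e1
    exact hw1 (hinj w 1 fun x => by rw [hδ, hε, e1, one_mul, map_one, MulAut.one_apply])
  · have h1 : (ε ^ (q + 1)) ^ (q - 1) = 1 := by
      rw [← pow_mul, show (q + 1) * (q - 1) = Fintype.card F - 1 by
        rw [hcard, ← Nat.sq_sub_sq, one_pow]]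
      exact FiniteField.pow_card_sub_one_eq_one ε hε0
    obtain ⟨c, hc, hcx⟩ := hcS' _ h1
    have e1 : c = w ^ (q + 1) := hinj _ _ fun x => by rw [hcx, hδ (w ^ (q + 1)), hpow hε]
    obtain ⟨z, hz, hz1⟩ : ∃ z ∈ center P, z ≠ 1 := ⟨x0 * x0, h.sq x0, fun e => hx0 (h.invol x0 e)⟩
    have hc1 : c = 1 := by
      by_contra hne
      exact hz1 (h.free c hc hne z (e1 ▸ (pow_mem hw (q + 1) : w ^ (q + 1) ∈ ker₀ C ψ).1 z hz))
    have h2 := hpow hε (q + 1) 1
    rwa [← e1, hc1, hδ1, mul_one, eq_comm] at h2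
  · obtain ⟨s, hs⟩ := hcentF (δ d) (hδadd d) fun a ha y => by
      rw [← hδmul, ← hδmul]
      congr 1
      refine Subgroup.closure_induction (p := fun a _ => d * a = a * d) ?_ ?_ ?_ ?_ ha
      · rintro a (ha | rfl)
        · exact hdC a ha
        · exact hdw
      · rw [mul_one, one_mul]
      · intro a b _ _ ha hb; exact (Commute.mul_right ha hb).eq
      · intro a _ ha; exact (Commute.inv_right ha).eq
    exact ⟨s, fun x => by rw [hδ, hs]⟩
  · -- semilinearity
    have hd' : d⁻¹ * w * d * w = w * (d⁻¹ * w * d) := by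
      calc d⁻¹ * w * d * w = d⁻¹ * (w * (d * w * d⁻¹)) * d := by group
        _ = d⁻¹ * (d * w * d⁻¹ * w) * d := by rw [hd]
        _ = w * (d⁻¹ * w * d) := by group
    -- `d` conjugates the scalars of `A` to scalars
    have hgood : ∀ a ∈ A, ∃ r : F, ∀ y, δ (d⁻¹ * a * d) y = r * y := by
      intro a ha
      suffices hcom : (∀ c ∈ C, d⁻¹ * a * d * c = c * (d⁻¹ * a * d)) ∧
          d⁻¹ * a * d * w = w * (d⁻¹ * a * d) by
        refine hcentF _ (hδadd _) fun b hb y => ?_
        rw [← hδmul, ← hδmul]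
        congr 1
        refine Subgroup.closure_induction (p := fun b _ => d⁻¹ * a * d * b = b * (d⁻¹ * a * d))
          ?_ ?_ ?_ ?_ hb
        · rintro b (hb | rfl)
          · exact hcom.1 b hb
          · exact hcom.2
        · rw [mul_one, one_mul]
        · intro b b' _ _ h1 h2; exact (Commute.mul_right h1 h2).eq
        · intro b _ h1; exact (Commute.inv_right h1).eq
      have hwC : ∀ c ∈ C, Commute (d⁻¹ * w * d) c := fun c hc => by
        have := (conj_ker₀ h d⁻¹ hw).2 c hc
        rwa [inv_inv] at this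
      have hCC : ∀ a ∈ C, d⁻¹ * a * d ∈ C := fun a ha => by
        have := h.norm d⁻¹ a ha
        rwa [inv_inv] at this
      refine Subgroup.closure_induction
        (p := fun a _ => (∀ c ∈ C, d⁻¹ * a * d * c = c * (d⁻¹ * a * d)) ∧
          d⁻¹ * a * d * w = w * (d⁻¹ * a * d)) ?_ ?_ ?_ ?_ ha
      · rintro a (ha | rfl)
        · exact ⟨fun c hc => h.comm _ (hCC a ha) c hc, (hw.2 _ (hCC a ha)).symm⟩
        · exact ⟨fun c hc => (hwC c hc).eq, hd'⟩
      · simp
      · intro a b _ _ h1 h2
        have he : d⁻¹ * (a * b) * d = d⁻¹ * a * d * (d⁻¹ * b * d) := by group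
        rw [he]
        exact ⟨fun c hc => (Commute.mul_left (h1.1 c hc) (h2.1 c hc)).eq,
          (Commute.mul_left h1.2 h2.2).eq⟩
      · intro a _ h1
        have he : d⁻¹ * a⁻¹ * d = (d⁻¹ * a * d)⁻¹ := by group
        rw [he]
        exact ⟨fun c hc => (Commute.inv_left (h1.1 c hc)).eq, (Commute.inv_left h1.2).eq⟩
    have hcomp : ∀ s, ∃ r, ∀ y, δ d (s * δ d⁻¹ y) = r * y := fun s =>
      hcentF (fun y => δ d (s * δ d⁻¹ y)) (fun y z => by simp only [hδadd, mul_add]) fun a ha y => by
        obtain ⟨r, hr⟩ := hgood a ha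
        have e1 : δ d⁻¹ (δ a y) = r * δ d⁻¹ y := by
          rw [← hr, ← hδmul, ← hδmul]
          congr 1
          group
        have e2 : ∀ z, δ d (r * z) = δ a (δ d z) := fun z => by
          rw [← hr, ← hδmul, ← hδmul]
          congr 1
          group
        simp only [e1]
        rw [← e2, mul_left_comm]
    choose T hT using hcomp
    have hdinj : Function.Injective (δ d) := fun y z e1 => by
      have := congrArg (δ d⁻¹) e1
      rwa [← hδmul, ← hδmul, inv_mul_cancel, hδ1, hδ1] at this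
    have hmain : ∀ s y, δ d (s * y) = T s * δ d y := fun s y => by
      rw [← hT s (δ d y), ← hδmul d⁻¹ d, inv_mul_cancel, hδ1]
    set u := δ d 1 with hu
    have hu0 : u ≠ 0 := fun e1 => one_ne_zero (hdinj (e1.trans (by
      have := hδadd d 0 0
      rwa [add_zero, left_eq_add, eq_comm] at this)))
    have hdy : ∀ y, δ d y = T y * u := fun y => by
      rw [hu, ← hmain, mul_one]
    have hTinj : Function.Injective T := fun s s' e1 =>
      hdinj (by rw [hdy, hdy, e1])
    let Tr : F →+* F :=
      { toFun := T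
        map_one' := mul_right_cancel₀ hu0 (by rw [← hdy, one_mul])
        map_mul' := fun s s' => mul_right_cancel₀ hu0 (by
          rw [← hdy, hmain, hdy, mul_assoc])
        map_zero' := mul_right_cancel₀ hu0 (by
          rw [← hdy, zero_mul]
          have := hδadd d 0 0
          rwa [add_zero, left_eq_add] at this)
        map_add' := fun s s' => mul_right_cancel₀ hu0 (by
          rw [← hdy, hδadd, hdy, hdy, add_mul]) }
    let τ : F ≃+* F := RingEquiv.ofBijective Tr
      ⟨hTinj, Finite.injective_iff_surjective.mp hTinj⟩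
    have hτ : ∀ y, δ d y = u * τ y := fun y => by rw [hdy, mul_comm]; rfl
    refine ⟨u, τ, hu0, ?_, fun x => by rw [hδ, hτ]⟩
    have hk : ∀ m : ℕ, ∃ v : F, ∀ y, δ (d ^ m) y = v * (τ ^ m) y := by
      intro m
      induction m with
      | zero => exact ⟨1, fun y => by rw [pow_zero, pow_zero, hδ1, one_mul]; rfl⟩
      | succ m ih =>
        obtain ⟨v, hv⟩ := ih
        refine ⟨u * τ v, fun y => ?_⟩
        rw [pow_succ', hδmul, hv, hτ, map_mul, mul_assoc, pow_succ']
        rfl
    obtain ⟨v, hv⟩ := hk (Nat.card D)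
    have hv1 : v = 1 := by
      have := hv 1
      rw [pow_card_eq_one', hδ1, map_one, mul_one] at this
      exact this.symm
    refine h.odd.of_dvd_nat (orderOf_dvd_of_pow_eq_one (RingEquiv.ext fun y => ?_))
    have := hv y
    rw [pow_card_eq_one', hδ1, hv1, one_mul] at this
    exact this.symm

end CfsgLib.RankOne.Cube
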