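import Mathlib
import Cfsg.Agent.Lib.RankOne.Split.CubeField
import Cfsg.Agent.Lib.RankOne.SuzukiTwoTypeA

/-!
# Coordinates of a Suzuki 2-group of order `q³` with a nontrivial kernel

The kernel is commutative, every operator is semilinear on `P/Z(P)`, and `C` acts on `P/Z(P)` and on
`Z(P)` by `φ λ` and `λ²`.
-/

set_option autoImplicit false
set_option linter.style.haveILetI false

namespace CfsgLib.RankOne.Cube

open Subgroup

universe u v

variable {P : Type u} [Group P] [Finite P] {D : Type v} [Group D] [Finite D]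
  {C : Subgroup D} {ψ : D →* MulAut P}

/-- The coordinates. -/
structure Coords (C : Subgroup D) (ψ : D →* MulAut P) (F : Type u) [Field F] [Fintype F] where
  n : ℕ
  two_le : 2 ≤ n
  card_field : Fintype.card F = (2 ^ n) ^ 2
  card_center : Nat.card (center P) = 2 ^ n
  π : P → F
  π_mul : ∀ x y, π (x * y) = π x + π y
  π_surj : Function.Surjective π
  π_eq_zero : ∀ x, π x = 0 ↔ x ∈ center P
  ι : F → P
  ι_mem : ∀ z, ι z ∈ center P
  ι_add : ∀ y z, y ^ 2 ^ n = y → z ^ 2 ^ n = z → ι (y + z) = ι y * ι z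
  ι_inj : ∀ y z, y ^ 2 ^ n = y → z ^ 2 ^ n = z → ι y = ι z → y = z
  ι_surj : ∀ x ∈ center P, ∃ z, z ^ 2 ^ n = z ∧ ι z = x
  φ : F → F
  φ_fix : ∀ l, l ^ 2 ^ n = l → φ l ^ 2 ^ n = φ l
  φ_zero : φ 0 = 0
  φ_one : φ 1 = 1
  φ_mul : ∀ l m, l ^ 2 ^ n = l → m ^ 2 ^ n = m → φ (l * m) = φ l * φ m
  φ_inj : ∀ l m, l ^ 2 ^ n = l → m ^ 2 ^ n = m → φ l = φ m → l = m
  φ_surj : ∀ s, s ^ 2 ^ n = s → ∃ l, l ^ 2 ^ n = l ∧ φ l = s
  scalar : ∀ c ∈ C, ∃ l, l ^ 2 ^ n = l ∧ l ≠ 0 ∧ (∀ x, π (ψ c x) = φ l * π x) ∧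
    ∀ z, z ^ 2 ^ n = z → ψ c (ι z) = ι (l * l * z)
  exists_scalar : ∀ l, l ^ 2 ^ n = l → l ≠ 0 → ∃ c ∈ C, (∀ x, π (ψ c x) = φ l * π x) ∧
    ∀ z, z ^ 2 ^ n = z → ψ c (ι z) = ι (l * l * z)
  semilinear : ∀ d : D, ∃ (u : F) (τ : F ≃+* F), u ≠ 0 ∧ Odd (orderOf τ) ∧
    ∀ x, π (ψ d x) = u * τ (π x)
  w : D
  w_mem : w ∈ ker₀ C ψ
  ε : F
  ε_ne : ε ≠ 1
  ε_norm : ε ^ (2 ^ n + 1) = 1
  w_act : ∀ x, π (ψ w x) = ε * π x
  ker_scalar : ∀ d ∈ ker₀ C ψ, ∃ s : F, ∀ x, π (ψ d x) = s * π x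

variable (h : Hyp C ψ)
include h

theorem eq_of_proj {F : Type*} [AddGroup F] {π : P → F} (hm : ∀ x y, π (x * y) = π x + π y)
    (h0 : ∀ x, π x = 0 ↔ x ∈ center P) {d d' : D} (he : ∀ x, π (ψ d x) = π (ψ d' x)) : d = d' := by
  refine (inv_mul_eq_one.mp (eq_one_of_quot h fun x => ?_)).symm
  have h1 : π ((ψ d' x)⁻¹ * ψ d x) = 0 := by
    rw [hm, he, ← hm, inv_mul_cancel]
    exact (h0 1).mpr (one_mem _)
  have h2 := center_image (ψ d'⁻¹) ((h0 _).mp h1)
  rw [map_mul, map_inv, map_inv ψ, MulAut.inv_apply_self, ← map_inv ψ, ← MulAut.mul_apply,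
    ← map_mul] at h2
  exact h2

theorem proj_congr {F : Type*} [AddGroup F] {π : P → F} (hm : ∀ x y, π (x * y) = π x + π y)
    (h0 : ∀ x, π x = 0 ↔ x ∈ center P) (d : D) {a b : P} (he : π a = π b) :
    π (ψ d a) = π (ψ d b) := by
  have h1 : b⁻¹ * a ∈ center P := (h0 _).mp (by
    rw [hm, he, ← hm, inv_mul_cancel]
    exact (h0 1).mpr (one_mem _))
  have h2 := (h0 _).mpr (center_image (ψ d) h1)
  calc π (ψ d a) = π (ψ d b * ψ d (b⁻¹ * a)) := by rw [← map_mul]; group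
    _ = π (ψ d b) := by rw [hm, h2, add_zero]

/-- The kernel is commutative. -/
theorem ker₀_commute {x y : D} (hx : x ∈ ker₀ C ψ) (hy : y ∈ ker₀ C ψ) : x * y = y * x := by
  suffices hcm : Commute (⟨x, hx⟩ : ker₀ C ψ) ⟨y, hy⟩ from congrArg Subtype.val hcm.eq
  refine SimpleField.commute_of_ti (fun x hx1 y z hy hz => ?_) (fun x hx1 g hg => ?_) _ _
  · have hx1' : (x : D) ≠ 1 := fun e => hx1 (Subtype.ext e)
    obtain ⟨F, _, _, _, π, -, hm, -, h0, -, -, -, hcom, -⟩ := field_of h x.2 hx1'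
    obtain ⟨s, hs⟩ := hcom y.1 y.2.2 (congrArg Subtype.val hy.eq)
    obtain ⟨r, hr⟩ := hcom z.1 z.2.2 (congrArg Subtype.val hz.eq)
    refine Subtype.ext (eq_of_proj h hm h0 fun v => ?_)
    change π (ψ (y.1 * z.1) v) = π (ψ (z.1 * y.1) v)
    rw [map_mul, map_mul, MulAut.mul_apply, MulAut.mul_apply, hs, hr, hr, hs, mul_left_comm]
  · have hx1' : (x : D) ≠ 1 := fun e => hx1 (Subtype.ext e)
    obtain ⟨F, _, _, _, π, hF, hm, hsurj, h0, -, hC, ⟨ε, hε1, hεn, hε⟩, hcom, -⟩ := field_of h x.2 hx1'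
    set q := Nat.card (center P) with hq
    have hq1 := h.one_lt
    obtain ⟨s, hs⟩ := hcom (g * x * g⁻¹ : ker₀ C ψ).1 (g * x * g⁻¹).2.2 (congrArg Subtype.val hg.eq)
    have hε0 : ε ≠ 0 := fun e => by rw [e, zero_pow (by omega)] at hεn; exact zero_ne_one hεn
    have hεi : ∀ v, π (ψ ((x : D)⁻¹) v) = ε⁻¹ * π v := fun v => by
      have := hε (ψ ((x : D)⁻¹) v)
      rw [map_inv, MulAut.apply_inv_self] at this
      rw [map_inv, this, inv_mul_cancel_left₀ hε0]
    have hs0 : s ≠ 0 := fun e => by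
      obtain ⟨v, hv⟩ := hsurj 1
      have h1 := (h0 _).mp ((hs v).trans (by rw [e, zero_mul]))
      have h2 := (h0 _).mpr (by simpa using center_image (ψ ((g * x * g⁻¹ : ker₀ C ψ) : D)⁻¹) h1)
      rw [hv] at h2
      exact one_ne_zero h2
    -- `ε + ε⁻¹` is the scalar of an element of `C`
    set r := ε + ε⁻¹ with hr
    have hεq : ε ^ q = ε⁻¹ := eq_inv_of_mul_eq_one_left (by rw [← pow_succ]; exact hεn)
    obtain ⟨n, hn⟩ : ∃ n, q = 2 ^ n := by
      have hP : IsPGroup 2 (center P) := fun z => ⟨1, by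
        rw [pow_one, pow_two]; exact Subtype.ext (h.central_two z.1 z.2)⟩
      exact hP.exists_card_eq
    haveI : ExpChar F 2 := inferInstance
    have hrq : r ^ q = r := by
      rw [hr, hn, add_pow_expChar_pow, ← hn, inv_pow, hεq, inv_inv, add_comm]
    have hr0 : r ≠ 0 := fun e => hε1 (by
      have h2 : ε = ε⁻¹ := CharTwo.add_eq_zero.mp e
      have h3 : ε * ε = 1 := by nth_rw 2 [h2]; exact mul_inv_cancel₀ hε0
      have h4 : (ε + 1) * (ε + 1) = 0 := by
        rw [CharTwo.add_mul_self, h3, one_mul, CharTwo.add_self_eq_zero]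
      exact CharTwo.add_eq_zero.mp (mul_self_eq_zero.mp h4))
    obtain ⟨c, hc, hcs⟩ := hC r (by
      have h5 : r ^ (q - 1) * r = r := by rw [← pow_succ, Nat.sub_add_cancel (by omega), hrq]
      exact mul_right_cancel₀ hr0 (h5.trans (one_mul r).symm))
    have hkey : ∀ v, s * π v + s⁻¹ * π v = r * π v := fun v => by
      set gx := ((g * x * g⁻¹ : ker₀ C ψ) : D) with hgx
      set v' := ψ ((g : D)⁻¹) v with hv'
      have hgv : ψ (g : D) v' = v := by rw [hv', map_inv, MulAut.apply_inv_self]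
      have e1 : π (ψ (g : D) (ψ (x : D) v' * ψ ((x : D)⁻¹) v')) = π (ψ (g : D) (ψ c v')) :=
        proj_congr h hm h0 _ (by rw [hm, hε, hεi, hcs, hr, add_mul])
      have hgc : ψ (g : D) (ψ c v') = ψ c v := by
        rw [← MulAut.mul_apply, ← map_mul, g.2.2 c hc, map_mul, MulAut.mul_apply, hgv]
      have hgx1 : ψ (g : D) (ψ (x : D) v') = ψ gx v := by
        rw [hv', ← MulAut.mul_apply, ← MulAut.mul_apply, ← map_mul, ← map_mul]; rfl
      have hgx2 : ψ (g : D) (ψ ((x : D)⁻¹) v') = ψ gx⁻¹ v := by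
        rw [hv', ← MulAut.mul_apply, ← MulAut.mul_apply, ← map_mul, ← map_mul, hgx,
          Subgroup.coe_mul, Subgroup.coe_mul, Subgroup.coe_inv]
        congr 2
        group
      have hsi : π (ψ gx⁻¹ v) = s⁻¹ * π v := by
        have := hs (ψ gx⁻¹ v)
        rw [map_inv, MulAut.apply_inv_self] at this
        rw [map_inv, this, inv_mul_cancel_left₀ hs0]
      rw [map_mul, hgx1, hgx2, hm, hgc, hcs, hs, hsi] at e1
      exact e1
    obtain ⟨v, hv⟩ := hsurj 1
    have hk := hkey v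
    rw [hv, mul_one, mul_one, mul_one, hr] at hk
    have hfac : (s - ε) * (s - ε⁻¹) = 0 := by
      have h2 : s * (s + s⁻¹) = s * (ε + ε⁻¹) := by rw [hk]
      rw [mul_add, mul_inv_cancel₀ hs0] at h2
      have h3 : ε * ε⁻¹ = 1 := mul_inv_cancel₀ hε0
      linear_combination h2 + h3
    rcases mul_eq_zero.mp hfac with e | e
    · have : g * x * g⁻¹ = x := Subtype.ext (eq_of_proj h hm h0 fun v => by
        rw [hs, hε, sub_eq_zero.mp e])
      exact mul_inv_eq_iff_eq_mul.mp this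
    · -- `g` would invert `x`
      have hinv : g * x * g⁻¹ = x⁻¹ := Subtype.ext (eq_of_proj h hm h0 fun v => by
        rw [hs, Subgroup.coe_inv, hεi, sub_eq_zero.mp e])
      have h2 : Commute (g * g) x := by
        refine mul_inv_eq_iff_eq_mul.mp ?_
        calc g * g * x * (g * g)⁻¹ = g * (g * x * g⁻¹) * g⁻¹ := by group
          _ = g * x⁻¹ * g⁻¹ := by rw [hinv]
          _ = (g * x * g⁻¹)⁻¹ := by group
          _ = x := by rw [hinv, inv_inv]
      obtain ⟨m, hm'⟩ := h.odd.of_dvd_nat (Subgroup.card_subgroup_dvd_card (ker₀ C ψ))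
      have hg1 : (g * g) ^ (m + 1) = g := by
        rw [← pow_two, ← pow_mul, show 2 * (m + 1) = 2 * m + 1 + 1 by ring, pow_succ, ← hm',
          pow_card_eq_one', one_mul]
      exact hg1 ▸ h2.pow_left (m + 1)

/-- The coordinates exist. -/
theorem exists_coords {w : D} (hw : w ∈ ker₀ C ψ) (hw1 : w ≠ 1) :
    ∃ (F : Type u) (_ : Field F) (_ : Fintype F) (_ : CharP F 2), Nonempty (Coords C ψ F) := by
  classical
  obtain ⟨F, iF, iFt, iC, π, hF, hm, hsurj, h0, hCs, hCs', ⟨ε, hε1, hεn, hε⟩, hcom, hsemi⟩ :=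
    field_of h hw hw1
  have hP : IsPGroup 2 (center P) := fun z => ⟨1, by
    rw [pow_one, pow_two]; exact Subtype.ext (h.central_two z.1 z.2)⟩
  obtain ⟨n, hn⟩ := hP.exists_card_eq
  have hq1 := h.one_lt
  have hC := card_C h
  rw [hn] at hq1 hC hF hCs hCs' hεn
  have hn2 : 2 ≤ n := by
    rcases n with _ | _ | n
    · simp at hq1
    · simp at hq1
    · omega
  set q := 2 ^ n with hqdef
  have hfix : ∀ {s : F}, s ≠ 0 → (s ^ (q - 1) = 1 ↔ s ^ q = s) := fun {s} hs => by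
    have e : s ^ (q - 1) * s = s ^ q := by rw [← pow_succ, Nat.sub_add_cancel (by omega)]
    exact ⟨fun h1 => by rw [← e, h1, one_mul], fun h1 =>
      mul_right_cancel₀ hs (by rw [e, h1, one_mul])⟩
  let K0 : Subfield F := (iterateFrobenius F 2 n).eqLocusField (RingHom.id F)
  have hK0 : ∀ {s : F}, s ∈ K0 ↔ s ^ q = s := fun {s} => Iff.rfl
  choose sc hsc1 hsc using fun c : C => hCs c c.2
  have hsc0 : ∀ c, sc c ≠ 0 := fun c e => by
    have := hsc1 c; rw [e, zero_pow (by omega)] at this; exact zero_ne_one this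
  have hscK : ∀ c, sc c ∈ K0 := fun c => hK0.mpr ((hfix (hsc0 c)).mp (hsc1 c))
  have hscinj : Function.Injective sc := fun c c' e =>
    Subtype.ext (eq_of_proj h hm h0 fun x => by rw [hsc, hsc, e])
  let e1 : C → {s : K0 // s ≠ 0} := fun c =>
    ⟨⟨sc c, hscK c⟩, fun e => hsc0 c (congrArg Subtype.val e)⟩
  have he1 : Function.Bijective e1 := by
    refine ⟨fun c c' e => hscinj (congrArg (fun s => (s.1 : F)) e), fun ⟨⟨s, hs⟩, hs0⟩ => ?_⟩
    have hs0' : s ≠ 0 := fun e => hs0 (Subtype.ext e)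
    obtain ⟨c, hc, hcx⟩ := hCs' s ((hfix hs0').mpr (hK0.mp hs))
    obtain ⟨x, hx⟩ := hsurj 1
    refine ⟨⟨c, hc⟩, Subtype.ext (Subtype.ext ?_)⟩
    change sc ⟨c, hc⟩ = s
    have := (hsc ⟨c, hc⟩ x).symm.trans (hcx x)
    rwa [hx, mul_one, mul_one] at this
  -- the centre as a field with `C` as multiplicative group
  letI : CommGroup C :=
    { (inferInstance : Group C) with mul_comm := fun c c' => Subtype.ext (h.comm c c.2 c' c'.2) }
  letI : CommGroup (center P) :=
    { (inferInstance : Group (center P)) with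
      mul_comm := fun z z' => Subtype.ext (mem_center_iff.mp z'.2 z.1) }
  let res : D → center P →* center P := fun d =>
    { toFun := fun z => ⟨ψ d z, center_image _ z.2⟩
      map_one' := Subtype.ext (map_one _)
      map_mul' := fun z z' => Subtype.ext (map_mul _ _ _) }
  let act : C →* AddMonoid.End (Additive (center P)) :=
    { toFun := fun c => MonoidHom.toAdditive (res c)
      map_one' := DFunLike.ext _ _ fun z => by
        change Additive.ofMul (res ((1 : C) : D) (Additive.toMul z)) = z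
        exact congrArg Additive.ofMul (Subtype.ext (show ψ ((1 : C) : D) _ = _ by
          rw [OneMemClass.coe_one, map_one, MulAut.one_apply]; rfl))
      map_mul' := fun c c' => DFunLike.ext _ _ fun z => by
        change Additive.ofMul (res ((c * c' : C) : D) (Additive.toMul z)) =
          Additive.ofMul (res (c : D) (res (c' : D) (Additive.toMul z)))
        exact congrArg Additive.ofMul (Subtype.ext (show ψ ((c * c' : C) : D) _ = ψ (c : D) (ψ (c' : D) _) by
          rw [Subgroup.coe_mul, map_mul, MulAut.mul_apply])) }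
  obtain ⟨x0, hx0⟩ := exists_noncentral h
  let v0 : Additive (center P) := Additive.ofMul ⟨x0 * x0, h.sq x0⟩
  have hv0 : v0 ≠ 0 := fun e =>
    hx0 (h.invol x0 (congrArg (fun z => ((Additive.toMul z : center P) : P)) e))
  obtain ⟨K', _, _, _, e', he'b, he'add, -, hs', hs''⟩ := SuzukiTwoTypeA.exists_field_of_trans
    (fun z : Additive (center P) => congrArg Additive.ofMul
      (Subtype.ext (h.central_two _ (Additive.toMul z).2)))
    act v0 hv0 fun v hv => by
      obtain ⟨c, hc, hcz⟩ := h.trans _ (h.sq x0) _ (Additive.toMul v).2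
        (fun e => hx0 (h.invol x0 e)) fun e => hv (congrArg Additive.ofMul (Subtype.ext e))
      exact ⟨⟨c, hc⟩, congrArg Additive.ofMul (Subtype.ext hcz)⟩
  haveI : CharP K0 2 := RingHom.charP K0.subtype Subtype.val_injective 2
  haveI : Fintype K0 := Fintype.ofFinite _
  have hcK0 : Fintype.card K0 = q := by
    have h1 := Nat.card_eq_of_bijective e1 he1
    rw [Nat.card_eq_fintype_card (α := {s : K0 // s ≠ 0}), Fintype.card_subtype_compl,
      Fintype.card_subtype_eq] at h1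
    have : 0 < Fintype.card K0 := Fintype.card_pos
    omega
  have hcK' : Fintype.card K' = q := by
    rw [← Nat.card_eq_fintype_card, Nat.card_eq_of_bijective e' he'b,
      ← Nat.card_congr (Additive.ofMul (α := center P)), hn]
  let j : K0 ≃+* K' := FiniteField.ringEquivOfCardEq (hcK0.trans hcK'.symm)
  let ιK : K0 → P := fun z => ((Additive.toMul (e' (j z)) : center P) : P)
  choose l hl0 hl using hs'
  let L : C → K0 := fun c => j.symm (l c)
  have hLZ : ∀ (c : C) (z : K0), ψ c (ιK z) = ιK (L c * z) := fun c z => by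
    have := congrArg (fun v => ((Additive.toMul v : center P) : P)) (hl c (j z))
    change ψ c (ιK z) = _ at this
    rw [this]
    change _ = ((Additive.toMul (e' (j (j.symm (l c) * z))) : center P) : P)
    rw [map_mul, j.apply_symm_apply]
  have hιKinj : Function.Injective ιK := fun y z e =>
    j.injective (he'b.1 (congrArg Additive.ofMul (Subtype.ext e)))
  -- square roots
  let rt : K0 → K0 := fun z => (frobeniusEquiv K0 2).symm z
  have hrt : ∀ z : K0, rt z * rt z = z := fun z => by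
    rw [← pow_two]
    exact frobeniusEquiv_symm_pow_p K0 2 z
  have hsq_inj : ∀ y z : K0, y * y = z * z → y = z := fun y z e =>
    frobenius_inj K0 2 (by rw [frobenius_def, frobenius_def, pow_two, pow_two, e])
  let R : C → K0 := fun c => rt (L c)
  have hR : ∀ c, R c * R c = L c := fun c => hrt _
  have hR0 : ∀ c, R c ≠ 0 := fun c e => hl0 c (by
    have h1 := hR c
    rw [e, mul_zero] at h1
    simpa [L] using congrArg j h1.symm)
  have hRsurj : ∀ z : K0, z ≠ 0 → ∃ c, R c = z := fun z hz => by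
    obtain ⟨c, hc⟩ := hs'' (j (z * z)) (fun e => hz (by
      rw [map_eq_zero, mul_self_eq_zero] at e; exact e))
    refine ⟨c, hsq_inj _ _ ?_⟩
    rw [hR]
    change j.symm (l c) = z * z
    rw [RingEquiv.symm_apply_eq]
    obtain ⟨y, hy⟩ := he'b.2 v0
    have h2 := (hl c y).symm.trans (hc y)
    have h3 := he'b.1 h2
    have hy0 : y ≠ 0 := fun e => hv0 (by
      have h4 := he'add 0 0
      rw [add_zero, left_eq_add] at h4
      rw [← hy, e, h4])
    exact mul_right_cancel₀ hy0 h3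
  have hRinj : Function.Injective R := fun c c' e => by
    have h2 : L c = L c' := by rw [← hR, ← hR, e]
    by_contra hne
    obtain ⟨z, hz⟩ : ∃ z : K0, ιK z = x0 * x0 := by
      obtain ⟨y, hy⟩ := he'b.2 v0
      exact ⟨j.symm y, by change ((Additive.toMul (e' (j (j.symm y))) : center P) : P) = _; rw [j.apply_symm_apply, hy]; rfl⟩
    have h3 : ψ (c : D) (x0 * x0) = ψ (c' : D) (x0 * x0) := by rw [← hz, hLZ, hLZ, h2]
    refine hx0 (h.invol x0 (h.free ((c' : D)⁻¹ * c) (mul_mem (inv_mem c'.2) c.2)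
      (fun e1 => hne (Subtype.ext (inv_mul_eq_one.mp e1).symm)) _ ?_))
    rw [map_mul ψ, MulAut.mul_apply, h3, map_inv ψ, MulAut.inv_apply_self]
  let Φ : F → F := fun y => if hy : ∃ c, ((R c : K0) : F) = y then sc hy.choose else 0
  have hΦ : ∀ c, Φ (R c : K0) = sc c := fun c => by
    have hex : ∃ c', ((R c' : K0) : F) = (R c : K0) := ⟨c, rfl⟩
    change dite _ _ _ = _
    rw [dif_pos hex, hRinj (Subtype.ext hex.choose_spec)]
  have hΦ0 : Φ 0 = 0 := dif_neg fun ⟨c, hc⟩ => hR0 c (Subtype.ext hc)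
  have hcase : ∀ y : F, y ^ q = y → y = 0 ∨ ∃ c, ((R c : K0) : F) = y := fun y hy => by
    by_cases hy0 : y = 0
    · exact Or.inl hy0
    · obtain ⟨c, hc⟩ := hRsurj ⟨y, hK0.mpr hy⟩ fun e => hy0 (congrArg Subtype.val e)
      exact Or.inr ⟨c, congrArg Subtype.val hc⟩
  have hRmul : ∀ c c', R (c * c') = R c * R c' := fun c c' => hsq_inj _ _ (by
    rw [hR, mul_mul_mul_comm, hR, hR]
    change j.symm (l (c * c')) = j.symm (l c) * j.symm (l c')
    rw [← map_mul]
    congr 1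
    obtain ⟨y, hy⟩ := he'b.2 v0
    have hy0 : y ≠ 0 := fun e => hv0 (by
      have h4 := he'add 0 0
      rw [add_zero, left_eq_add] at h4
      rw [← hy, e, h4])
    refine mul_right_cancel₀ hy0 (he'b.1 ?_)
    rw [← hl, map_mul]
    change act c (act c' (e' y)) = _
    rw [hl, hl, mul_assoc])
  have hscmul : ∀ c c', sc (c * c') = sc c * sc c' := fun c c' => by
    obtain ⟨x, hx⟩ := hsurj 1
    have h1 := hsc (c * c') x
    rw [Subgroup.coe_mul, map_mul, MulAut.mul_apply, hsc, hsc, hx, mul_one, mul_one] at h1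
    exact h1.symm
  let ιF : F → P := fun z => if hz : z ∈ K0 then ιK ⟨z, hz⟩ else 1
  have hιF : ∀ z (hz : z ^ q = z), ιF z = ιK ⟨z, hK0.mpr hz⟩ := fun z hz => dif_pos _
  have hsame : ∀ c : C, ∀ z, z ^ q = z →
      ψ c (ιF z) = ιF (((R c : K0) : F) * (R c : K0) * z) := fun c z hz => by
    have hm' : (((R c : K0) : F) * (R c : K0) * z) ∈ K0 :=
      mul_mem (mul_mem (R c).2 (R c).2) (hK0.mpr hz)
    rw [hιF z hz, hLZ, ← hR, show ιF _ = ιK ⟨_, hm'⟩ from dif_pos hm']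
    rfl
  refine ⟨F, iF, iFt, iC, ⟨⟨n, hn2, hF, hn, π, hm, hsurj, h0, ιF, fun z => ?_, fun y z hy hz => ?_,
    fun y z hy hz e => ?_, fun x hx => ?_, Φ, fun y hy => ?_, hΦ0, ?_, fun y z hy hz => ?_,
    fun y z hy hz e => ?_, fun s hs => ?_, fun c hc => ?_, fun y hy hy0 => ?_, fun d => ?_, w, hw, ε,
    hε1, hεn, hε, fun d hd => hcom d hd.2 (ker₀_commute h hd hw)⟩⟩⟩
  · change dite _ _ _ ∈ _
    split
    · exact (Additive.toMul (e' _) : center P).2
    · exact one_mem _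
  · have hyz : (y + z) ∈ K0 := add_mem (hK0.mpr hy) (hK0.mpr hz)
    rw [hιF y hy, hιF z hz, show ιF (y + z) = ιK ⟨_, hyz⟩ from dif_pos hyz]
    change _ = ((Additive.toMul (e' (j ⟨y, _⟩) + e' (j ⟨z, _⟩)) : center P) : P)
    rw [← he'add, ← map_add]
    rfl
  · rw [hιF y hy, hιF z hz] at e
    exact congrArg Subtype.val (hιKinj e)
  · obtain ⟨y, hy⟩ := he'b.2 (Additive.ofMul ⟨x, hx⟩)
    refine ⟨(j.symm y : K0), hK0.mp (j.symm y).2, ?_⟩
    rw [hιF _ (hK0.mp (j.symm y).2)]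
    change ((Additive.toMul (e' (j (j.symm y))) : center P) : P) = x
    rw [j.apply_symm_apply, hy]
    rfl
  · rcases hcase y hy with rfl | ⟨c, rfl⟩
    · rw [hΦ0, zero_pow (by omega)]
    · rw [hΦ]; exact hK0.mp (hscK c)
  · obtain ⟨c, hc⟩ := hRsurj 1 one_ne_zero
    have hc1 : R (c * c) = R c := by rw [hRmul, hc, mul_one]
    have hc2 : c = 1 := mul_eq_left.mp (hRinj hc1)
    have hR1 : ((R c : K0) : F) = 1 := by rw [hc]; rfl
    conv_lhs => rw [← hR1, hΦ, hc2]
    obtain ⟨x, hx⟩ := hsurj 1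
    have h1 := hsc 1 x
    rw [OneMemClass.coe_one, map_one, MulAut.one_apply, hx, mul_one] at h1
    exact h1.symm
  · rcases hcase y hy with rfl | ⟨c, rfl⟩
    · rw [zero_mul, hΦ0, zero_mul]
    rcases hcase z hz with rfl | ⟨c', rfl⟩
    · rw [mul_zero, hΦ0, mul_zero]
    rw [hΦ, hΦ, ← hscmul, ← hΦ, hRmul]
    rfl
  · rcases hcase y hy with rfl | ⟨c, rfl⟩ <;> rcases hcase z hz with rfl | ⟨c', rfl⟩
    · rfl
    · rw [hΦ0, hΦ] at e; exact absurd e.symm (hsc0 c')
    · rw [hΦ0, hΦ] at e; exact absurd e (hsc0 c)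
    · rw [hΦ, hΦ] at e; rw [hscinj e]
  · by_cases hs0 : s = 0
    · exact ⟨0, zero_pow (by omega), by rw [hΦ0, hs0]⟩
    obtain ⟨c, hc⟩ := he1.2 ⟨⟨s, hK0.mpr hs⟩, fun e => hs0 (congrArg Subtype.val e)⟩
    exact ⟨(R c : K0), hK0.mp (R c).2, by rw [hΦ]; exact congrArg (fun s => (s.1 : F)) hc⟩
  · exact ⟨(R ⟨c, hc⟩ : K0), hK0.mp (R _).2, fun e => hR0 _ (Subtype.ext e),
      fun x => by rw [hΦ]; exact hsc ⟨c, hc⟩ x, hsame ⟨c, hc⟩⟩
  · obtain ⟨c, hc⟩ := hRsurj ⟨y, hK0.mpr hy⟩ fun e => hy0 (congrArg Subtype.val e)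
    have hcy : ((R c : K0) : F) = y := congrArg Subtype.val hc
    subst hcy
    exact ⟨c, c.2, fun x => by rw [hΦ]; exact hsc c x, hsame c⟩
  · exact hsemi d (ker₀_commute h (conj_ker₀ h d hw) hw)

end CfsgLib.RankOne.Cube
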