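import Cfsg.Agent.Lib.RankOne.Split.Defs
import Cfsg.Agent.Lib.Recognition.CIT.Main
import Cfsg.Agent.Lib.Involution.StronglyEmbedded
import Cfsg.Agent.Lib.Involution.ZStar.Main
import Cfsg.Agent.Lib.Involution.ZStar.Corollaries
import Cfsg.Agent.Lib.Solvable.Cores

/-!
# From a strongly embedded subgroup with a regular normal subgroup to the rank-one set-up
-/

set_option autoImplicit false
set_option linter.style.haveILetI false

open Cfsg

namespace CfsgLib.RankOne.SplitGlue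

open MulAction

variable {G : Type*} [Group G] [Finite G]

/-- A simple group has two distinct commuting involutions once it has a strongly embedded subgroup. -/
theorem exists_commuting_involutions [IsSimpleGroup G] {H : Subgroup G} (hH : IsStronglyEmbedded H) :
    ∃ x y : G, x ≠ 1 ∧ y ≠ 1 ∧ x ≠ y ∧ x * x = 1 ∧ y * y = 1 ∧ x * y = y * x := by
  by_contra hcomm
  have h2 : 2 ∣ Nat.card H := even_iff_two_dvd.mp hH.2.1
  haveI : Fact (Nat.Prime 2) := ⟨Nat.prime_two⟩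
  obtain ⟨⟨z, hzH⟩, hz⟩ := exists_prime_orderOf_dvd_card' 2 h2
  rw [Subgroup.orderOf_mk] at hz
  have hz1 : z ≠ 1 := fun e => by rw [orderOf_eq_one_iff.mpr e] at hz; exact absurd hz (by norm_num)
  have hiso : IsIsolatedInvolution z := ⟨hz, fun g hg => by
    by_contra hne
    have hzz : z * z = 1 := by rw [← pow_two, ← hz]; exact pow_orderOf_eq_one z
    exact hcomm ⟨z, g * z * g⁻¹, hz1, fun e => hz1 (conj_eq_one_iff.mp e), Ne.symm hne, hzz,
      by rw [conj_mul, hzz]; group, hg.eq⟩⟩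
  have hO : oddCore G = ⊥ := by
    haveI : (oddCore G).Normal := Subgroup.sSup_normal _ fun _ h => h.1
    refine (IsSimpleGroup.eq_bot_or_eq_top_of_normal (oddCore G) inferInstance).resolve_right fun h => ?_
    have hc := CfsgLib.Solvable.Cores.coprime_card_pPrimeCore (G := G) 2
    have hG : 2 ∣ Nat.card G := h2.trans (Subgroup.card_subgroup_dvd_card H)
    change (Nat.card ↥(oddCore G)).Coprime 2 at hc
    rw [h, Subgroup.card_top] at hc
    exact (Nat.Prime.coprime_iff_not_dvd Nat.prime_two).mp hc.symm hG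
  refine hH.1 (eq_top_iff.2 fun g _ => ?_)
  obtain ⟨o, ho, c, hc, rfl⟩ := CfsgLib.Involution.ZStar.exists_oddCore_mul_centralizer
    (CfsgLib.Involution.ZStar.starCentral G) hiso g
  rw [hO, Subgroup.mem_bot] at ho
  rw [ho, one_mul]
  have hfix : z • ((1 : G) : G ⧸ H) = ((1 : G) : G ⧸ H) :=
    CfsgLib.Involution.SE.fixes_mk_iff.2 (by simpa using hzH)
  have h := CfsgLib.Involution.SE.commute_fixes hH hz hfix (Subgroup.mem_centralizer_singleton_iff.1 hc)
  simpa using CfsgLib.Involution.SE.fixes_mk_iff.1 h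

theorem stabilizer_mk_one (H : Subgroup G) :
    MulAction.stabilizer G ((1 : G) : G ⧸ H) = H := MulAction.stabilizer_quotient H

/-- The set-up on the cosets of a strongly embedded subgroup with a regular normal subgroup. -/
theorem setup_of_regular [IsSimpleGroup G] (H : Subgroup G) (hH : IsStronglyEmbedded H) (Q : Subgroup G)
    (hQH : Q ≤ H) (hQn : (Q.subgroupOf H).Normal)
    (htrans : ∀ g₁ g₂ : G, g₁ ∉ H → g₂ ∉ H → ∃ u ∈ Q, g₂⁻¹ * (u * g₁) ∈ H)
    (hreg : ∀ g : G, g ∉ H → ∀ u ∈ Q, g⁻¹ * (u * g) ∈ H → u = 1) :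
    FaithfulSMul G (G ⧸ H) ∧
      ∃ t : G, IsRankOneSetup G (G ⧸ H) ((1 : G) : G ⧸ H) t Q := by
  have hfaith : FaithfulSMul G (G ⧸ H) := by
    have hk : H.normalCore = ⊥ :=
      (IsSimpleGroup.eq_bot_or_eq_top_of_normal _ (Subgroup.normalCore_normal H)).resolve_right fun h =>
        hH.1 (top_le_iff.mp (h ▸ Subgroup.normalCore_le H))
    rw [Subgroup.normalCore_eq_ker] at hk
    refine ⟨fun {x y} h => ?_⟩
    refine (MonoidHom.ker_eq_bot_iff _).mp hk (Equiv.ext fun b => ?_)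
    exact h b
  refine ⟨hfaith, ?_⟩
  -- an involution outside `H`
  obtain ⟨t, htH, ht1, ht⟩ : ∃ t, t ∉ H ∧ t ≠ 1 ∧ t * t = 1 := by
    by_contra hno
    push Not at hno
    haveI : Fact (Nat.Prime 2) := ⟨Nat.prime_two⟩
    obtain ⟨⟨z, hzH⟩, hz⟩ := exists_prime_orderOf_dvd_card' 2 (even_iff_two_dvd.mp hH.2.1)
    rw [Subgroup.orderOf_mk] at hz
    have hz1 : z ≠ 1 := fun e => by rw [orderOf_eq_one_iff.mpr e] at hz; exact absurd hz (by norm_num)
    have hzz : z * z = 1 := by rw [← pow_two, ← hz]; exact pow_orderOf_eq_one z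
    have hle : Subgroup.normalClosure {z} ≤ H := by
      rw [Subgroup.normalClosure, Subgroup.closure_le]
      intro y hy
      obtain ⟨w, hw, hwy⟩ := Group.mem_conjugatesOfSet_iff.mp hy
      rw [Set.mem_singleton_iff] at hw
      subst hw
      obtain ⟨g, rfl⟩ := isConj_iff.mp hwy
      by_contra hyH
      exact hno (g * w * g⁻¹) hyH (fun e => hz1 (conj_eq_one_iff.mp e)) (by rw [conj_mul, hzz]; group)
    rcases IsSimpleGroup.eq_bot_or_eq_top_of_normal (Subgroup.normalClosure {z}) inferInstance with h | h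
    · exact hz1 (Subgroup.mem_bot.mp (h ▸ Subgroup.subset_normalClosure (Set.mem_singleton z)))
    · exact hH.1 (top_le_iff.mp (h ▸ hle))
  set a : G ⧸ H := ((1 : G) : G ⧸ H) with ha
  have hA : stabilizer G a = H := stabilizer_mk_one H
  have hta : t • a = ((t : G) : G ⧸ H) := by
    rw [ha, MulAction.Quotient.smul_mk, smul_eq_mul, mul_one]
  have hstab : ∀ (x g : G), x • ((g : G) : G ⧸ H) = g ↔ g⁻¹ * x * g ∈ H := fun x g =>
    CfsgLib.Involution.SE.fixes_mk_iff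
  have hne : ∀ g : G, ((g : G) : G ⧸ H) ≠ a ↔ g ∉ H := fun g => by
    rw [ha, ne_eq, QuotientGroup.eq, mul_one, inv_mem_iff]
  -- `Q` is transitive on the other points
  have htr : ∀ g₁ g₂ : G, g₁ ∉ H → g₂ ∉ H → ∃ u ∈ Q, u • ((g₁ : G) : G ⧸ H) = g₂ := by
    intro g₁ g₂ h1 h2
    obtain ⟨u, hu, huH⟩ := htrans g₁ g₂ h1 h2
    refine ⟨u, hu, ?_⟩
    rw [MulAction.Quotient.smul_mk, smul_eq_mul, eq_comm, QuotientGroup.eq]
    exact huH
  have hpre : MulAction.IsMultiplyPretransitive G (G ⧸ H) 2 := by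
    rw [MulAction.is_two_pretransitive_iff]
    have aux : ∀ p q : G ⧸ H, p ≠ q → ∃ g : G, g • a = p ∧ g • t • a = q := by
      intro p q hpq
      obtain ⟨x, rfl⟩ := QuotientGroup.mk_surjective p
      obtain ⟨y, rfl⟩ := QuotientGroup.mk_surjective q
      obtain ⟨u, hu, e⟩ := htr t (x⁻¹ * y) htH fun h => hpq (QuotientGroup.eq.mpr h)
      refine ⟨x * u, ?_, ?_⟩
      · rw [mul_smul, show u • a = a from (hA.symm ▸ hQH hu : u ∈ stabilizer G a), ha,
          MulAction.Quotient.smul_mk, smul_eq_mul, mul_one]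
      · rw [hta, mul_smul, e, MulAction.Quotient.smul_mk, smul_eq_mul, mul_inv_cancel_left]
    intro p q r s hpq hrs
    obtain ⟨g, hg1, hg2⟩ := aux p q hpq
    obtain ⟨g', hg1', hg2'⟩ := aux r s hrs
    refine ⟨g' * g⁻¹, ?_, ?_⟩
    · rw [← hg1, mul_smul, inv_smul_smul, hg1']
    · rw [← hg2, mul_smul, inv_smul_smul, hg2']
  have hD : Odd (Nat.card ↥(stabilizer G a ⊓ stabilizer G (t • a))) := by
    have e : stabilizer G a ⊓ stabilizer G (t • a) = H ⊓ H.map (MulAut.conj t).toMonoidHom := by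
      rw [stabilizer_smul_eq_stabilizer_map_conj, hA]
    rw [e]; exact hH.2.2 t htH
  have hinf : Q ⊓ stabilizer G (t • a) = ⊥ := by
    refine (Subgroup.eq_bot_iff_forall _).mpr fun u hu => ?_
    have h : u • ((t : G) : G ⧸ H) = t := by rw [← hta]; exact hu.2
    refine hreg t htH u hu.1 ?_
    rw [← mul_assoc]; exact (hstab u t).mp h
  have hsup : Q ⊔ (stabilizer G a ⊓ stabilizer G (t • a)) = stabilizer G a := by
    refine le_antisymm (sup_le (hA.symm ▸ hQH) inf_le_left) fun h hh => ?_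
    have hhH : h ∈ H := hA ▸ hh
    obtain ⟨u, hu, e⟩ := htr t (h * t) htH fun hc => htH (by simpa using mul_mem (inv_mem hhH) hc)
    have hd : u⁻¹ * h ∈ stabilizer G a ⊓ stabilizer G (t • a) := by
      refine Subgroup.mem_inf.mpr ⟨hA.symm ▸ mul_mem (inv_mem (hQH hu)) hhH, ?_⟩
      change (u⁻¹ * h) • t • a = t • a
      rw [hta, mul_smul, MulAction.Quotient.smul_mk, smul_eq_mul, ← e, inv_smul_smul]
    simpa using Subgroup.mul_mem_sup hu hd
  have heven : Even (Nat.card Q) := by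
    haveI : Fact (Nat.Prime 2) := ⟨Nat.prime_two⟩
    obtain ⟨⟨z, hzH⟩, hz⟩ := exists_prime_orderOf_dvd_card' 2 (even_iff_two_dvd.mp hH.2.1)
    by_contra hodd
    set D := stabilizer G a ⊓ stabilizer G (t • a) with hDdef
    have hnorm : D ≤ Subgroup.normalizer (Q : Set G) := fun d hd =>
      ((Subgroup.normal_subgroupOf_iff_le_normalizer hQH).mp hQn) (hA ▸ hd.1)
    have hc : Nat.card H ∣ Nat.card Q * Nat.card D := by
      rw [← hA, ← hsup]
      have hf : Function.Surjective (fun p : Q × D => (⟨(p.1 : G) * p.2,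
          Subgroup.mul_mem_sup p.1.2 p.2.2⟩ : ↥(Q ⊔ D))) := by
        rintro ⟨g, hg⟩
        rw [← SetLike.mem_coe, Subgroup.coe_mul_of_right_le_normalizer_left _ _ hnorm] at hg
        obtain ⟨q, hq, d, hd, rfl⟩ := hg
        exact ⟨(⟨q, hq⟩, ⟨d, hd⟩), rfl⟩
      have hinj : Function.Injective (fun p : Q × D => (⟨(p.1 : G) * p.2,
          Subgroup.mul_mem_sup p.1.2 p.2.2⟩ : ↥(Q ⊔ D))) := by
        rintro ⟨⟨q, hq⟩, ⟨d, hd⟩⟩ ⟨⟨q', hq'⟩, ⟨d', hd'⟩⟩ e
        have e' : q * d = q' * d' := congrArg Subtype.val e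
        have h1 : q'⁻¹ * q = d' * d⁻¹ := by
          rw [eq_mul_inv_iff_mul_eq, mul_assoc, e', inv_mul_cancel_left]
        have h2 : q'⁻¹ * q = 1 := by
          rw [← Subgroup.mem_bot, ← hinf]
          exact Subgroup.mem_inf.mpr ⟨mul_mem (inv_mem hq') hq,
            h1 ▸ (Subgroup.mem_inf.mp (mul_mem hd' (inv_mem hd))).2⟩
        have h3 : q' = q := inv_mul_eq_one.mp h2
        subst h3
        simp [mul_left_cancel e']
      rw [← Nat.card_congr (Equiv.ofBijective _ ⟨hinj, hf⟩), Nat.card_prod]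
    have : Odd (Nat.card H) := ((Nat.not_even_iff_odd.mp hodd).mul hD).of_dvd_nat hc
    exact Nat.not_even_iff_odd.mpr this hH.2.1
  refine ⟨t, hpre, ht, ht1, ?_, hA.symm ▸ hQH, ?_, hinf, hsup, heven, hD⟩
  · rw [hA]; exact htH
  · rw [hA]
    intro h hh x hx
    exact (Subgroup.mem_normalizer_iff.mp
      (((Subgroup.normal_subgroupOf_iff_le_normalizer hQH).mp hQn) hh) x).mp hx

/-- For a simple group the normal subgroup in the conclusion is the whole group. -/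
theorem simple_cases [IsSimpleGroup G] (h2 : 2 ∣ Nat.card G) (hC : Conclusion G) :
    (∃ (F : Type) (_ : Field F) (_ : Fintype F), (∃ n : ℕ, 2 ≤ n ∧ Fintype.card F = 2 ^ n) ∧
        Nonempty (G ≃* Matrix.ProjectiveSpecialLinearGroup (Fin 2) F)) ∨
      Cfsg.Lie.IsoSuzuki G ∨
      (∃ (F : Type) (_ : Field F) (_ : Fintype F) (n : ℕ), 2 ≤ n ∧ Fintype.card F = (2 ^ n) ^ 2 ∧
        Nonempty (G ≃* Cfsg.PSU 3 F (2 ^ n))) := by
  obtain ⟨L, hLn, hLodd, hL⟩ := hC
  rcases IsSimpleGroup.eq_bot_or_eq_top_of_normal L hLn with rfl | rfl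
  · rw [Subgroup.index_bot] at hLodd
    exact absurd (even_iff_two_dvd.mpr h2) (Nat.not_even_iff_odd.mpr hLodd)
  · have e : (⊤ : Subgroup G) ≃* G := Subgroup.topEquiv
    rcases hL with ⟨F, i1, i2, hc, ⟨f⟩⟩ | ⟨F, i1, i2, m, hm, hc, ⟨f⟩⟩ | ⟨F, i1, i2, n, hn, hc, ⟨f⟩⟩
    · exact Or.inl ⟨F, i1, i2, hc, ⟨e.symm.trans f⟩⟩
    · exact Or.inr (Or.inl ⟨F, i1, i2, m, hm, hc, ⟨e.symm.trans f⟩⟩)
    · exact Or.inr (Or.inr ⟨F, i1, i2, n, hn, hc, ⟨e.symm.trans f⟩⟩)

/-- The simple group with a strongly embedded subgroup and a regular normal subgroup of it, from the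
classification in the rank-one set-up. -/
theorem regular_cases [IsSimpleGroup G] (H : Subgroup G) (hH : IsStronglyEmbedded H) (Q : Subgroup G)
    (hQH : Q ≤ H) (hQn : (Q.subgroupOf H).Normal)
    (htrans : ∀ g₁ g₂ : G, g₁ ∉ H → g₂ ∉ H → ∃ u ∈ Q, g₂⁻¹ * (u * g₁) ∈ H)
    (hreg : ∀ g : G, g ∉ H → ∀ u ∈ Q, g⁻¹ * (u * g) ∈ H → u = 1)
    (hclass : FaithfulSMul G (G ⧸ H) → ∀ t : G, IsRankOneSetup G (G ⧸ H) ((1 : G) : G ⧸ H) t Q →
      (∃ x y : G, x ≠ 1 ∧ y ≠ 1 ∧ x ≠ y ∧ x * x = 1 ∧ y * y = 1 ∧ x * y = y * x) → Conclusion G) :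
    (∃ (F : Type) (_ : Field F) (_ : Fintype F), CharP F 2 ∧ 4 ≤ Fintype.card F ∧
        Nonempty (G ≃* Matrix.ProjectiveSpecialLinearGroup (Fin 2) F)) ∨
      Cfsg.IsSuzuki G ∨
      (∃ (F : Type) (_ : Field F) (_ : Fintype F) (q : ℕ), Fintype.card F = q ^ 2 ∧ Even q ∧ 4 ≤ q ∧
        Nonempty (G ≃* Cfsg.PSU 3 F q)) := by
  obtain ⟨hf, t, hS⟩ := setup_of_regular H hH Q hQH hQn htrans hreg
  have h2 : 2 ∣ Nat.card G :=
    (even_iff_two_dvd.mp hH.2.1).trans (Subgroup.card_subgroup_dvd_card H)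
  rcases simple_cases h2 (hclass hf t hS (exists_commuting_involutions hH)) with
    ⟨F, i1, i2, ⟨n, hn, hc⟩, he⟩ | h | ⟨F, i1, i2, n, hn, hc, he⟩
  · refine Or.inl ⟨F, i1, i2, ?_, ?_, he⟩
    · haveI : Fact (Nat.Prime 2) := ⟨Nat.prime_two⟩
      exact charP_of_card_eq_prime_pow hc
    · rw [hc]; calc 4 = 2 ^ 2 := rfl
        _ ≤ 2 ^ n := Nat.pow_le_pow_right two_pos hn
  · exact Or.inr (Or.inl (CfsgLib.Recognition.CIT.isSuzuki_of_iso h))
  · refine Or.inr (Or.inr ⟨F, i1, i2, 2 ^ n, hc, (even_two.pow_of_ne_zero (by omega)), ?_, he⟩)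
    calc 4 = 2 ^ 2 := rfl
      _ ≤ 2 ^ n := Nat.pow_le_pow_right two_pos hn

end CfsgLib.RankOne.SplitGlue
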