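import Mathlib
import Cfsg.Agent.Lib.RankOne.UnitaryUnique.Coords
import Cfsg.Agent.Lib.RankOne.FixedLine.Form

/-!
# The squaring map of `Q` is a multiple of the norm

The multiplier being trivial, squaring has weight one and is invariant under a norm-one element, so
it is a multiple of the norm.
-/

set_option autoImplicit false
set_option linter.style.haveILetI false

namespace CfsgLib.RankOne

open CfsgLib.Classical UnitaryUnique

universe u

variable {G : Type u} [Group G] {Q : Subgroup G} {F : Type} [Field F] [Fintype F] [CharP F 2]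
  {σ : F →+* F}

theorem sq_eq_norm {π : G → F} {ι : Fix σ → G} (hσ : IsConjugation σ)
    (hπm : ∀ x ∈ Q, ∀ y ∈ Q, π (x * y) = π x + π y) (hπs : ∀ c : F, ∃ x ∈ Q, π x = c)
    (hπ0 : ∀ x ∈ Q, π x = 0 ↔ ∃ z, ι z = x) (hπ2 : ∀ x ∈ Q, x * x = 1 → π x = 0)
    (hιQ : ∀ z, ι z ∈ Q) (hιa : ∀ z z', ι (z + z') = ι z * ι z') (hιi : Function.Injective ι)
    (hιc : ∀ z, ∀ x ∈ Q, ι z * x = x * ι z) {ε : F} (hεn : ε * σ ε = 1) (hε1 : ε ≠ 1)
    (hscal : ∀ l : Fix σ, l ≠ 0 → ∃ k : G, (∀ x ∈ Q, k * x * k⁻¹ ∈ Q ∧ π (k * x * k⁻¹) = (l : F) * π x) ∧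
      ∀ z, k * ι z * k⁻¹ = ι (l * l * z))
    (hrot : ∃ w : G, (∀ x ∈ Q, w * x * w⁻¹ ∈ Q ∧ π (w * x * w⁻¹) = ε * π x) ∧
      ∀ z, w * ι z * w⁻¹ = ι z) :
    ∃ b : Fix σ, b ≠ 0 ∧ ∀ x ∈ Q, ∀ z : Fix σ, (z : F) = (b : F) * (π x * σ (π x)) → x * x = ι z := by
  classical
  haveI : CharP (Fix σ) 2 := RingHom.charP (Fix σ).subtype Subtype.val_injective 2
  have hι0 : ι 0 = 1 := by
    have h := hιa 0 0
    rw [add_zero] at h
    exact mul_eq_left.mp h.symm
  have hz2 : ∀ z, ι z * ι z = 1 := fun z => by rw [← hιa, add_self_fix, hι0]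
  have hsqd : ∀ x ∈ Q, ∃ z, ι z = x * x := fun x hx =>
    (hπ0 _ (mul_mem hx hx)).mp (by rw [hπm x hx x hx, CharTwo.add_self_eq_zero])
  choose R hRQ hR using hπs
  have hdiff : ∀ x ∈ Q, ∀ y ∈ Q, π x = π y → ∃ z, y = x * ι z := fun x hx y hy e => by
    obtain ⟨z, hz⟩ := (hπ0 _ (mul_mem (inv_mem hx) hy)).mp (by
      have h1 := hπm x hx (x⁻¹ * y) (mul_mem (inv_mem hx) hy)
      rw [mul_inv_cancel_left, e] at h1
      exact left_eq_add.mp h1)
    exact ⟨z, by rw [hz, mul_inv_cancel_left]⟩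
  choose s hs using fun c => hsqd (R c) (hRQ c)
  have hS : ∀ x ∈ Q, x * x = ι (s (π x)) := fun x hx => by
    obtain ⟨z, hz⟩ := hdiff (R (π x)) (hRQ _) x hx (hR _)
    rw [hs]
    conv_lhs => rw [hz]
    calc R (π x) * ι z * (R (π x) * ι z) = R (π x) * (ι z * R (π x)) * ι z := by group
      _ = R (π x) * R (π x) * (ι z * ι z) := by rw [hιc z _ (hRQ _)]; group
      _ = R (π x) * R (π x) := by rw [hz2, mul_one]
  have hs0 : ∀ c, s c = 0 → c = 0 := fun c e => by
    rw [← hR c]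
    exact hπ2 _ (hRQ c) (by rw [← hs, e, hι0])
  have hsl : ∀ (l : Fix σ) (c : F), l ≠ 0 → s ((l : F) * c) = l * l * s c := fun l c hl => by
    obtain ⟨k, hkQ, hkι⟩ := hscal l hl
    obtain ⟨hm, hp⟩ := hkQ _ (hRQ c)
    apply hιi
    rw [← hkι, hs c]
    have h1 := hS _ hm
    rw [hp, hR c] at h1
    rw [← h1]
    group
  have hsε : ∀ c, s (ε * c) = s c := fun c => by
    obtain ⟨w, hwQ, hwι⟩ := hrot
    obtain ⟨hm, hp⟩ := hwQ _ (hRQ c)
    apply hιi
    rw [← hwι (s c), hs c]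
    have h1 := hS _ hm
    rw [hp, hR c] at h1
    rw [← h1]
    group
  -- commutators
  let β : F → F → Fix σ := fun c d => s (c + d) + s c + s d
  have hkey : ∀ x ∈ Q, ∀ y ∈ Q, x⁻¹ * y * x * y⁻¹ = ι (β (π x) (π y)) := fun x hx y hy => by
    have h1 : (x * y) * (x * y) = ι (s (π x + π y)) := by rw [hS _ (mul_mem hx hy), hπm x hx y hy]
    have h3 : x⁻¹ * y * x * y⁻¹ = (ι (s (π x)))⁻¹ * ι (s (π x + π y)) * (ι (s (π y)))⁻¹ := by
      rw [← hS x hx, ← hS y hy, ← h1]; group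
    rw [h3, inv_eq_of_mul_eq_one_right (hz2 _), inv_eq_of_mul_eq_one_right (hz2 _), ← hιa, ← hιa]
    congr 1
    simp only [β]
    abel
  have hβl : ∀ c c' d, β (c + c') d = β c d + β c' d := fun c c' d => by
    apply hιi
    rw [hιa (β c d) (β c' d)]
    have hx := hRQ c; have hx' := hRQ c'; have hy := hRQ d
    have e := hkey _ (mul_mem hx hx') _ hy
    have e1 := hkey _ hx _ hy
    have e2 := hkey _ hx' _ hy
    rw [hR, hR] at e1 e2
    rw [hπm _ hx _ hx', hR, hR, hR] at e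
    rw [← e, ← e2]
    calc (R c * R c')⁻¹ * R d * (R c * R c') * (R d)⁻¹
        = (R c')⁻¹ * ((R c)⁻¹ * R d * R c * (R d)⁻¹) * R d * R c' * (R d)⁻¹ := by group
      _ = ι (β c d) * ((R c')⁻¹ * R d * R c' * (R d)⁻¹) := by
          rw [e1, ← hιc _ _ (inv_mem hx')]; group
  have hβr : ∀ c d d', β c (d + d') = β c d + β c d' := fun c d d' => by
    apply hιi
    rw [hιa (β c d) (β c d')]
    have hx := hRQ c; have hy := hRQ d; have hy' := hRQ d'
    have e := hkey _ hx _ (mul_mem hy hy')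
    have e1 := hkey _ hx _ hy
    have e2 := hkey _ hx _ hy'
    rw [hR, hR] at e1 e2
    rw [hπm _ hy _ hy', hR, hR, hR] at e
    rw [← e, ← e1]
    calc (R c)⁻¹ * (R d * R d') * R c * (R d * R d')⁻¹
        = (R c)⁻¹ * R d * R c * ((R c)⁻¹ * R d' * R c * (R d')⁻¹) * (R d)⁻¹ := by group
      _ = (R c)⁻¹ * R d * R c * (R d)⁻¹ * ι (β c d') := by
          rw [e2, mul_assoc _ (ι (β c d')), hιc _ _ (inv_mem hy)]; group
  have hbil : ∀ (c d : F) (x y : Fix σ), β ((x : F) * c) ((y : F) * d) = x * y * β c d := by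
    intro c d
    let rt : Fix σ → Fix σ := fun z => (frobeniusEquiv (Fix σ) 2).symm z
    have hrt : ∀ z, rt z ^ 2 = z := fun z => frobeniusEquiv_symm_pow_p (Fix σ) 2 z
    have hrt_add : ∀ y z, rt (y + z) = rt y + rt z := fun y z => map_add _ y z
    let g : Fix σ → Fix σ → Fix σ := fun x y => rt (β ((x : F) * c) ((y : F) * d))
    intro x y
    have key := FixedLine.biadd_sq g
      (fun x y z => by simp only [g, Subfield.coe_add, add_mul, hβl, hrt_add])
      (fun x y z => by simp only [g, Subfield.coe_add, add_mul, hβr, hrt_add])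
      (fun l x y hl => by
        have h1 : β (((l * x : Fix σ) : F) * c) (((l * y : Fix σ) : F) * d) =
            l * l * β ((x : F) * c) ((y : F) * d) := by
          simp only [β, Subfield.coe_mul, mul_assoc, ← mul_add, hsl _ _ hl]
        change rt _ = l * rt _
        rw [h1]
        apply frobenius_inj (Fix σ) 2
        rw [frobenius_def, frobenius_def, hrt, mul_pow, hrt, pow_two]) x y
    simp only [g, hrt, OneMemClass.coe_one, one_mul] at key
    exact key
  set b := s 1 with hb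
  have hb0 : b ≠ 0 := fun e => one_ne_zero (hs0 1 e)
  have hε0 : ε ≠ 0 := left_ne_zero_of_mul_eq_one hεn
  have hrfix : σ (ε + σ ε) = ε + σ ε := by rw [map_add, hσ.invol, add_comm]
  set r : Fix σ := ⟨ε + σ ε, hrfix⟩ with hr
  have hr0 : (r : F) ≠ 0 := fun e => hε1 (by
    have e' : σ ε = ε := (CharTwo.add_eq_zero.mp e).symm
    rw [e'] at hεn
    have h4 : (ε + 1) * (ε + 1) = 0 := by
      rw [CharTwo.add_mul_self, hεn, one_mul, CharTwo.add_self_eq_zero]
    exact CharTwo.add_eq_zero.mp (mul_self_eq_zero.mp h4))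
  have hε2 : ε * ε = (r : F) * ε + ((1 : Fix σ) : F) * 1 := by
    rw [OneMemClass.coe_one, one_mul]
    change ε * ε = (ε + σ ε) * ε + 1
    linear_combination hεn - (ε * σ ε) * CharTwo.two_eq_zero (R := F)
  have hsεε : s ε = b := by rw [hb, ← hsε 1, mul_one]
  have hβ0 : β 1 ε = r * b := by
    have h1 : s (ε * ε) = b := by rw [hsε, hsεε]
    have hr0' : r ≠ 0 := fun e => hr0 (by rw [e]; rfl)
    have h2 : β (((1 : Fix σ) : F) * 1) ((r : F) * ε) = 1 * r * β 1 ε := hbil 1 ε 1 r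
    rw [one_mul] at h2
    change s (((1 : Fix σ) : F) * 1 + (r : F) * ε) + s (((1 : Fix σ) : F) * 1) + s ((r : F) * ε) = _ at h2
    rw [add_comm _ ((r : F) * ε), ← hε2, h1, hsl r ε hr0', hsεε, OneMemClass.coe_one, one_mul, ← hb,
      CharTwo.add_self_eq_zero, zero_add, mul_assoc] at h2
    exact (mul_left_cancel₀ hr0' h2).symm
  refine ⟨b, hb0, fun x hx z hz => ?_⟩
  rw [hS x hx]
  congr 1
  set c := π x with hc
  have hyfix : σ ((c + σ c) / (r : F)) = (c + σ c) / (r : F) := by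
    rw [map_div₀, map_add, hσ.invol, add_comm, fix_apply r]
  set y : Fix σ := ⟨(c + σ c) / (r : F), hyfix⟩ with hy
  have hyr : (y : F) * (ε + σ ε) = c + σ c := div_mul_cancel₀ _ hr0
  have hxfix : σ (c + (y : F) * ε) = c + (y : F) * ε := by
    rw [map_add, map_mul, fix_apply y]
    linear_combination hyr + (σ c - (y : F) * ε) * CharTwo.two_eq_zero (R := F)
  set x' : Fix σ := ⟨c + (y : F) * ε, hxfix⟩ with hx'
  have hcd : c = (x' : F) * 1 + (y : F) * ε := by
    change c = (c + (y : F) * ε) * 1 + (y : F) * ε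
    linear_combination -((y : F) * ε) * CharTwo.two_eq_zero (R := F)
  have hsl' : ∀ (l : Fix σ) (d : F), s ((l : F) * d) = l * l * s d := fun l d => by
    by_cases hl : l = 0
    · subst hl
      rw [ZeroMemClass.coe_zero, zero_mul, zero_mul, zero_mul]
      apply hιi
      rw [hι0, hs]
      obtain ⟨w, hw⟩ := (hπ0 _ (hRQ 0)).mp (hR 0)
      rw [← hw, hz2]
    · exact hsl l d hl
  have hval : s c = x' * x' * b + y * y * b + x' * y * (r * b) := by
    have hb1 := hbil 1 ε x' y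
    rw [hβ0] at hb1
    change s ((x' : F) * 1 + (y : F) * ε) + s ((x' : F) * 1) + s ((y : F) * ε) = _ at hb1
    rw [← hcd, hsl', hsl', hsεε, ← hb] at hb1
    linear_combination hb1 - (x' * x' * b + y * y * b) * two_fix (σ := σ)
  refine Subtype.ext ?_
  rw [hval, hz, hcd, map_add, map_mul, map_mul, map_one, fix_apply x', fix_apply y]
  change (x' : F) * x' * b + (y : F) * y * b + (x' : F) * y * ((ε + σ ε) * b) = _
  linear_combination -((b : F) * (y : F) * (y : F)) * hεn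

end CfsgLib.RankOne
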