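import Cfsg.Agent.Lib.RankOne.Split.Coord0
import Cfsg.Agent.Lib.RankOne.Split.Square
import Cfsg.Agent.Lib.RankOne.Split.HeisAut
import Cfsg.Agent.Lib.RankOne.SuzukiTwoTypeA

/-!
# Heisenberg coordinates from an additive multiplier
-/

set_option autoImplicit false
set_option linter.style.haveILetI false

open Cfsg

namespace CfsgLib.RankOne

open MulAction UnitaryUnique UnitarySylow CfsgLib.Classical

universe u v

variable {G : Type u} {Ω : Type v} [Group G] [Finite G] [MulAction G Ω] {a : Ω} {t : G}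
  {Q : Subgroup G}

theorem exists_ucoord (hS : IsRankOneSetup G Ω a t Q) {F : Type} [Field F] [Fintype F] [CharP F 2]
    {σ : F →+* F} {q : ℕ} [hσ : Fact (IsConjugation σ)]
    [hq : Fact (Fintype.card F = q ^ 2 ∧ ∀ x, σ x = x ^ q)]
    (U : UCoord₀ a t Q F σ q) (ψ : F ≃+* F) (hψ : ∀ l : Fix σ, ψ (l : F) = (U.φ l : F)) :
    Nonempty (UCoord a t Q F σ q) := by
  classical
  haveI : CharP (Fix σ) 2 := RingHom.charP (Fix σ).subtype Subtype.val_injective 2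
  have hcomm : ∀ (τ : F ≃+* F) (x : F), σ (τ x) = τ (σ x) := comm_frob (σ := σ) (q := q)
  have hconjQ : ∀ d ∈ two G a t, ∀ x ∈ Q, d * x * d⁻¹ ∈ Q := fun d hd x hx =>
    hS.conj_mem _ (two_le hS hd) x hx
  -- remove the multiplier
  let π₁ : G → F := fun x => ψ.symm (U.π x)
  set ε₁ := ψ.symm U.ε with hε₁
  have hε₁n : ε₁ * σ ε₁ = 1 := by rw [hε₁, hcomm, ← map_mul, U.ε_norm, map_one]
  have hε₁1 : ε₁ ≠ 1 := fun e => U.ε_ne (ψ.symm.injective (e.trans (map_one _).symm))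
  have hscal₁ : ∀ l : Fix σ, l ≠ 0 → ∃ k ∈ invertedBy (two G a t) t,
      (∀ x ∈ Q, π₁ (k * x * k⁻¹) = (l : F) * π₁ x) ∧ ∀ z, k * U.ι z * k⁻¹ = U.ι (l * l * z) := by
    intro l hl
    obtain ⟨k, hk, hkπ, hkι⟩ := U.scalar l hl
    refine ⟨k, hk, fun x hx => ?_, hkι⟩
    change ψ.symm _ = _ * ψ.symm _
    rw [hkπ x hx, map_mul, ← hψ, ψ.symm_apply_apply]
  obtain ⟨w, hwD, hwt, hwπ, hwι⟩ := U.rotation
  obtain ⟨b, hb0, hb⟩ := sq_eq_norm (π := π₁) (ι := U.ι) U.conj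
    (fun x hx y hy => by change ψ.symm _ = ψ.symm _ + ψ.symm _; rw [U.π_mul x hx y hy, map_add])
    (fun c => by
      obtain ⟨x, hx, e⟩ := U.π_surj (ψ c)
      exact ⟨x, hx, by change ψ.symm _ = c; rw [e, ψ.symm_apply_apply]⟩)
    (fun x hx => by rw [← U.π_eq_zero x hx]; exact ψ.symm.map_eq_zero_iff)
    (fun x hx e => by change ψ.symm _ = 0; rw [U.π_invol x hx e, map_zero])
    U.ι_mem U.ι_add U.ι_inj U.ι_comm hε₁n hε₁1
    (fun l hl => by
      obtain ⟨k, hk, hkπ, hkι⟩ := hscal₁ l hl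
      exact ⟨k, fun x hx => ⟨hconjQ k hk.1 x hx, hkπ x hx⟩, hkι⟩)
    ⟨w, fun x hx => ⟨hconjQ w hwD x hx, by
      change ψ.symm _ = _ * ψ.symm _; rw [hwπ x hx, map_mul]⟩, hwι⟩
  obtain ⟨γ, hγ⟩ := (frobeniusEquiv (Fix σ) 2).surjective b
  have hγ' : (γ : F) * γ = (b : F) := by
    have : γ * γ = b := by rw [← hγ, frobeniusEquiv_apply, frobenius_def, pow_two]
    rw [← this]; rfl
  have hγ0 : (γ : F) ≠ 0 := fun e => hb0 (Subtype.ext (by rw [← hγ', e, mul_zero]; rfl))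
  let π₂ : Q → F := fun x => (γ : F) * π₁ x
  have hπ₂ : ∀ x : Q, π₂ x = (γ : F) * ψ.symm (U.π x) := fun x => rfl
  let N : F → Fix σ := fun c => ⟨c * σ c, hσ.out.norm_fixed c⟩
  haveI : Finite (Heis σ) := Finite.of_injective (fun g : Heis σ => (g.c, g.b))
    fun g g' e => Heis.ext (congrArg Prod.fst e) (congrArg Prod.snd e)
  obtain ⟨θ₀, hθc, -⟩ := SuzukiTwoTypeA.exists_iso_of_squares_compat (V := F) (P := Heis σ) (T := Q)
    (add_self_fix (σ := σ)) N (fun z => cent (z : F) z.2) (fun z => ⟨U.ι z, U.ι_mem z⟩) Heis.c π₂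
    (fun z z' e => Subtype.ext (congrArg Heis.b e))
    (fun z z' => (cent_mul (z : F) (z' : F) z.2 z'.2).symm)
    (fun z x => (Subgroup.mem_center_iff.mp (cent_mem _ z.2) x))
    mul_c (fun c => exists_elt c)
    (fun g => ⟨fun e => ⟨⟨g.b, fixed_of_c_eq_zero e⟩, Heis.ext e.symm rfl⟩, by rintro ⟨z, rfl⟩; rfl⟩)
    (fun g => mul_self_eq g)
    (fun z z' e => U.ι_inj (congrArg Subtype.val e))
    (fun z z' => Subtype.ext (U.ι_add z z'))
    (fun z x => Subtype.ext (U.ι_comm z x x.2).symm)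
    (fun x y => by
      rw [hπ₂, hπ₂, hπ₂, Subgroup.coe_mul, U.π_mul _ x.2 _ y.2, map_add, mul_add])
    (fun c => by
      obtain ⟨x, hx, e⟩ := U.π_surj (ψ ((γ : F)⁻¹ * c))
      refine ⟨⟨x, hx⟩, ?_⟩
      rw [hπ₂, show ((⟨x, hx⟩ : Q) : G) = x from rfl, e, ψ.symm_apply_apply, mul_inv_cancel_left₀ hγ0])
    (fun x => by
      rw [hπ₂, mul_eq_zero, or_iff_right hγ0, ψ.symm.map_eq_zero_iff, U.π_eq_zero _ x.2]
      exact ⟨fun ⟨z, hz⟩ => ⟨z, Subtype.ext hz⟩, fun ⟨z, hz⟩ => ⟨z, congrArg Subtype.val hz⟩⟩)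
    (fun x => Subtype.ext (hb x x.2 _ (by
      change π₂ x * σ (π₂ x) = _
      rw [hπ₂, map_mul, fix_apply γ, ← hγ']
      ring)))
  have hθc' : ∀ y : Q, (θ₀.symm y).c = π₂ y := fun y => by
    rw [← hθc (θ₀.symm y), θ₀.apply_symm_apply]
  let Γ : ↥(two G a t) →* MulAut (Heis σ) := (MulAut.congr θ₀.symm).toMonoidHom.comp (conjQ hS)
  obtain ⟨f, hf⟩ := exists_conj_simAut (σ := σ) (q := q) (D := ↥(two G a t)) hS.odd_card Γ
  let θ : Heis σ ≃* Q := (centAut f : MulAut (Heis σ)).trans θ₀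
  have hθ : ∀ g, π₂ (θ g) = g.c := fun g => hθc _
  have hsim : ∀ (d : G) (hd : d ∈ two G a t) (v : Fˣ) (τ : F ≃+* F),
      (∀ x : Q, π₂ (conjQ hS ⟨d, hd⟩ x) = (v : F) * τ (π₂ x)) →
      ∀ g, (θ (simAut (σ := σ) (q := q) v τ g) : G) = d * θ g * d⁻¹ := by
    intro d hd v τ hv g
    obtain ⟨v', τ', he⟩ := hf ⟨d, hd⟩
    have key : ∀ g, θ (simAut (σ := σ) (q := q) v' τ' g) = conjQ hS ⟨d, hd⟩ (θ g) := fun g => by
      rw [← he]
      change θ₀ (centAut f (centAut f (θ₀.symm (conjQ hS ⟨d, hd⟩ (θ₀ (centAut f g)))))) = _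
      rw [← MulAut.mul_apply, centAut_self, MulAut.one_apply, θ₀.apply_symm_apply]
      rfl
    have hc : ∀ c, (v' : F) * τ' c = (v : F) * τ c := fun c => by
      obtain ⟨g, rfl⟩ := exists_elt (σ := σ) c
      have h1 := congrArg π₂ (key g)
      rw [hθ, hv, hθ] at h1
      exact h1
    have h1 : v' = v := Units.ext (by simpa using hc 1)
    subst h1
    have h2 : τ' = τ := RingEquiv.ext fun c => mul_left_cancel₀ v'.ne_zero (hc c)
    subst h2
    rw [key]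
    rfl
  have hε0 : ε₁ ≠ 0 := left_ne_zero_of_mul_eq_one hε₁n
  refine ⟨⟨θ, ε₁, U.four_le, fun d hd => ?_, fun l hl => ?_, ⟨w, hwD, hwt, Units.mk0 ε₁ hε0, rfl, ?_⟩,
    hε₁n, hε₁1⟩⟩
  · obtain ⟨u, τ, -, -, hu, hτ, hd', -⟩ := U.semilinear d hd
    let T : F ≃+* F := (ψ.trans τ).trans ψ.symm
    have hv0 : (γ : F) * ψ.symm u / T (γ : F) ≠ 0 :=
      div_ne_zero (mul_ne_zero hγ0 fun e => hu (ψ.symm.map_eq_zero_iff.mp e))
        fun e => hγ0 (T.map_eq_zero_iff.mp e)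
    refine ⟨Units.mk0 _ hv0, T, ?_, hsim d hd _ T fun x => ?_⟩
    · refine hτ.of_dvd_nat (orderOf_dvd_of_pow_eq_one ?_)
      have hk : ∀ m : ℕ, ∀ x, (T ^ m) x = ψ.symm ((τ ^ m) (ψ x)) := by
        intro m
        induction m with
        | zero => intro x; simp
        | succ m ih =>
          intro x
          rw [pow_succ', RingAut.mul_apply, ih, pow_succ', RingAut.mul_apply]
          change ψ.symm (τ (ψ (ψ.symm _))) = _
          rw [ψ.apply_symm_apply]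
      exact RingEquiv.ext fun x => by rw [hk, pow_orderOf_eq_one]; simp
    · rw [hπ₂, hπ₂, conjQ_coe, hd' _ x.2, Units.val_mk0, map_mul T, map_mul]
      change _ = (γ : F) * ψ.symm u / T (γ : F) * (T (γ : F) * ψ.symm (τ (ψ (ψ.symm (U.π x)))))
      rw [ψ.apply_symm_apply]
      have hne : T (γ : F) ≠ 0 := fun e => hγ0 (T.map_eq_zero_iff.mp e)
      conv_rhs => rw [← mul_assoc, div_mul_cancel₀ _ hne]
      ring
  · obtain ⟨k, hk, hkπ, -⟩ := hscal₁ ⟨l, hl⟩ fun e => l.ne_zero (congrArg Subtype.val e)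
    refine ⟨k, hk, hsim k hk.1 l _ fun x => ?_⟩
    change (γ : F) * π₁ (k * x * k⁻¹) = (l : F) * ((γ : F) * π₁ x)
    rw [hkπ _ x.2]
    change (γ : F) * ((l : F) * _) = _
    ring
  · refine hsim w hwD _ _ fun x => ?_
    change (γ : F) * ψ.symm (U.π (w * x * w⁻¹)) = ε₁ * ((γ : F) * ψ.symm (U.π x))
    rw [hwπ _ x.2, map_mul, ← hε₁]
    ring

end CfsgLib.RankOne
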